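import Groth.Agent.Lib.FieldExtCd18.FiniteType

/-!
# From killed sheaves to torsion sheaves
-/

set_option autoImplicit false
set_option backward.isDefEq.respectTransparency false
set_option backward.isDefEq.respectTransparency.types false
set_option linter.all false

universe u

open CategoryTheory CategoryTheory.Limits CategoryTheory.Abelian AlgebraicGeometry Opposite

noncomputable section

namespace GrothLib.FieldExtCd18

/-- Vanishing for every prime gives vanishing for torsion. -/
theorem subsingleton_H_of_primes (X : Scheme.{u}) [CompactSpace X] [QuasiSeparatedSpace X] (q : ℕ)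
    (h : ∀ p : ℕ, p.Prime → ∀ G : EtCoh.Ab X, p • 𝟙 G = 0 → Subsingleton (EtCoh.H X G q))
    (F : EtCoh.Ab X) (hF : EtCoh.IsTorsion F) : Subsingleton (EtCoh.H X F q) := by
  suffices hz : ∀ x : EtCoh.H X F q, x = 0 from ⟨fun a b => (hz a).trans (hz b).symm⟩
  have key : ∀ N : ℕ, N ≠ 0 → ∀ G : EtCoh.Ab X, N • 𝟙 G = 0 → Subsingleton (EtCoh.H X G q) := by
    intro N
    induction N using Nat.strong_induction_on with
    | _ N ih =>
      intro hN G hG
      rcases eq_or_ne N 1 with rfl | hN1
      · refine GrothLib.CdP18.subsingleton_H_of_isZero ((IsZero.iff_id_eq_zero G).2 ?_) q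
        rwa [one_smul] at hG
      obtain ⟨p, hp, M, rfl⟩ := Nat.exists_prime_and_dvd hN1
      let T := ShortComplex.mk (kernel.ι (p • 𝟙 G)) (cokernel.π (kernel.ι (p • 𝟙 G))) (cokernel.condition _)
      have hT : T.ShortExact := { exact := T.exact_of_g_is_cokernel (cokernelIsCokernel _) }
      let b : T.X₃ ⟶ G := Abelian.factorThruCoimage (p • 𝟙 G)
      have hb : T.g ≫ b = p • 𝟙 G := Abelian.coimage.fac _
      haveI : Mono b := inferInstanceAs (Mono (Abelian.factorThruCoimage _))
      have hQ : M • 𝟙 T.X₃ = 0 := by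
        haveI : Epi T.g := hT.epi_g
        rw [← cancel_mono b, ← cancel_epi T.g, Preadditive.nsmul_comp, Category.id_comp, Preadditive.comp_nsmul, hb,
          zero_comp, comp_zero, ← mul_nsmul', mul_comm, hG]
      have hM : M ≠ 0 := fun h => hN (by rw [h, mul_zero])
      refine GrothLib.CdP18.subsingleton_H_X₂ hT q (h p hp _ ?_) (ih M ?_ hM _ hQ)
      · rw [← cancel_mono (kernel.ι (p • 𝟙 G)), Preadditive.nsmul_comp, Category.id_comp, zero_comp]
        have := kernel.condition (p • 𝟙 G)
        rwa [Preadditive.comp_nsmul, Category.comp_id] at this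
      · exact lt_mul_left (Nat.pos_of_ne_zero hM) hp.one_lt
  intro x
  obtain ⟨G, i, z, N, hN, hG, rfl⟩ := GrothLib.GalCd.exists_killed_preimage hF q x
  rw [@Subsingleton.elim _ (key N hN G hG) z 0, Ext.zero_comp]

end GrothLib.FieldExtCd18
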