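import Groth.Agent.Lib.DimFun18.Main
import Groth.Agent.Lib.CdBr2.Basic
import Groth.Agent.Lib.PurInsep.EtaleHom
import Groth.Agent.Lib.AzMod.SepSplit
import Groth.Agent.Lib.CdP18.Main
import Groth.Agent.S0642
import Groth.Agent.S7732
import Mathlib.FieldTheory.PurelyInseparable.PerfectClosure
import Mathlib.FieldTheory.IsAlgClosed.AlgebraicClosure

/-!
# Fields of transcendence degree at most one over separably closed fields
-/

set_option autoImplicit false
set_option backward.isDefEq.respectTransparency false
set_option backward.isDefEq.respectTransparency.types false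
set_option linter.style.haveILetI false
set_option linter.all false

universe u

open CategoryTheory CategoryTheory.Limits CategoryTheory.Abelian AlgebraicGeometry Opposite
open GrothLib.DimFun18

noncomputable section

namespace GrothLib.FieldExtCd18

/-- Vanishing descends along integral morphisms. -/
theorem killVan_of_integral {Y Z : Scheme.{u}} (f : Y ⟶ Z) [IsIntegralHom f] {N d : ℕ} (h : KillVan Z N d) :
    KillVan Y N d := by
  intro G hG q hq
  haveI := GrothLib.EtDer.pullFL f
  haveI : PreservesFiniteLimits (EtCoh.push f) :=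
    ((EtCoh.pullPushAdj f).rightAdjoint_preservesLimits : PreservesLimitsOfSize.{0, 0} _).preservesFiniteLimits
  haveI : (EtCoh.push f).Additive := Functor.additive_of_preserves_binary_products _
  haveI := h _ (killed_map (EtCoh.push f) hG) q hq
  exact (Groth.Agent.S14451.result f G (fun r hr => GrothLib.EtSite.isZero_Rpush_of_integral f G r hr) q).2.subsingleton

/-- Algebraic extensions. -/
theorem killVan_algebraic {K L : Type u} [Field K] [Field L] [Algebra K L] [Algebra.IsAlgebraic K L] {N d : ℕ}
    (h : KillVan (Spec (CommRingCat.of K)) N d) : KillVan (Spec (CommRingCat.of L)) N d := by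
  haveI : IsIntegralHom (Spec.map (CommRingCat.ofHom (algebraMap K L))) :=
    IsIntegralHom.SpecMap_iff.2 (algebraMap_isIntegral_iff.2 inferInstance)
  exact killVan_of_integral (Spec.map (CommRingCat.ofHom (algebraMap K L))) h

/-- A torsion-free bound for sheaves killed by a prime different from the characteristic. -/
theorem killVan_of_normSurj (L : Type u) [Field L] (p : ℕ) [Fact p.Prime] (hp : (p : L) ≠ 0)
    (hN : GrothLib.GalCd.NormSurj p L) : KillVan (Spec (CommRingCat.of L)) p 1 := by
  intro G hG q hq
  suffices h : ∀ x : EtCoh.H (Spec (CommRingCat.of L)) G q, x = 0 from ⟨fun a b => (h a).trans (h b).symm⟩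
  intro x
  exact ((Groth.Agent.S7732.result L p hp).out 2 0 rfl rfl).1
    (fun E _ _ _ M _ _ _ _ hM y hy => hN E M hM y hy) G
    (GrothLib.GalCd.isTorsion_of_killed (Fact.out : p.Prime).ne_zero hG) q hq x
    ⟨1, by rw [pow_one]; exact GrothLib.GalCd.nsmul_H hG x⟩

/-- A field of transcendence degree at most one over a separably closed field. -/
theorem killVan_one (R L : Type u) [Field R] [IsSepClosed R] [Field L] [Algebra R L]
    (ht : Algebra.trdeg R L ≤ 1) (p : ℕ) [Fact p.Prime] : KillVan (Spec (CommRingCat.of L)) p 1 := by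
  by_cases hp : (p : L) = 0
  · refine killVan_of_cohDimLEAt (GrothLib.CdP18.cohDimLEAt (X := Spec (CommRingCat.of L)) p ?_ 0 ?_)
    · rw [← map_natCast (Scheme.ΓSpecIso (CommRingCat.of L)).inv.hom]
      change (Scheme.ΓSpecIso (CommRingCat.of L)).inv.hom ((p : L)) = 0
      rw [hp, map_zero]
    · exact le_of_eq (by
        rw [show topologicalKrullDim (Spec (CommRingCat.of L)) = ringKrullDim L from
          PrimeSpectrum.topologicalKrullDim_eq_ringKrullDim L, ringKrullDim_eq_zero_of_field]
        rfl)
  let Ω := AlgebraicClosure L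
  let L' := perfectClosure L Ω
  let k := AlgebraicClosure R
  let i : k →ₐ[R] Ω := IsAlgClosed.lift
  obtain ⟨e, he⟩ := ExpChar.exists L
  haveI : ExpChar R e := (algebraMap R L).expChar (algebraMap R L).injective e
  have hi : ∀ z : k, i z ∈ L' := fun z => by
    obtain ⟨n, w, hw⟩ := IsPurelyInseparable.pow_mem R e z
    refine (mem_perfectClosure_iff_pow_mem e).2 ⟨n, algebraMap R L w, ?_⟩
    rw [← map_pow, ← hw, i.commutes, ← IsScalarTower.algebraMap_apply]
  let j : k →+* L' := i.toRingHom.codRestrict L' hi
  letI : Algebra k L' := j.toAlgebra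
  haveI : IsScalarTower R k L' := IsScalarTower.of_algebraMap_eq fun r => by
    apply Subtype.ext
    exact (i.commutes r).symm
  haveI : Algebra.IsAlgebraic L L' := inferInstance
  have h1 : Algebra.trdeg R L' ≤ 1 := by
    rw [← trdeg_add_eq R L, trdeg_eq_zero (R := L) (A := L'), add_zero]
    exact ht
  have h2 : Algebra.trdeg k L' ≤ 1 := by
    rw [← trdeg_add_eq R k, trdeg_eq_zero (R := R) (A := k), zero_add] at h1
    exact h1
  have hp' : (p : L') ≠ 0 := fun h => hp (by
    apply (algebraMap L L').injective
    rw [map_natCast, map_zero, h])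
  have hL' := killVan_of_normSurj L' p hp' (GrothLib.CdBr2.normSurj_of_trdeg_le_one k L' h2 p)
  let f := Spec.map (CommRingCat.ofHom (algebraMap L L'))
  haveI : UniversallyInjective f := GrothLib.PurInsep.universallyInjective_specMap L L'
  haveI : IsIntegralHom f := IsIntegralHom.SpecMap_iff.2 (algebraMap_isIntegral_iff.2 inferInstance)
  haveI : Surjective f := ⟨fun x => ⟨default, Subsingleton.elim _ _⟩⟩
  intro G hG q hq
  haveI := GrothLib.EtDer.pullFL f
  haveI : (EtCoh.pull f).Additive := (EtCoh.pullPushAdj f).left_adjoint_additive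
  haveI := hL' _ (killed_map (EtCoh.pull f) hG) q hq
  exact (Groth.Agent.S0642.result f G q).1.subsingleton

end GrothLib.FieldExtCd18
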