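import Groth.Agent.Lib.FieldExtCd18.Step
import Groth.Agent.Lib.DimFun18.Codim
import Groth.Agent.Lib.Dim.Scheme
import Mathlib.RingTheory.KrullDimension.Polynomial

/-!
# Schemes of finite type over a field
-/

set_option autoImplicit false
set_option backward.isDefEq.respectTransparency false
set_option backward.isDefEq.respectTransparency.types false
set_option linter.style.haveILetI false
set_option linter.all false

universe u

open CategoryTheory CategoryTheory.Limits AlgebraicGeometry Opposite IsLocalRing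
open GrothLib.DimFun18
open scoped TensorProduct

noncomputable section

namespace GrothLib.FieldExtCd18

variable {k : Type u} [Field k] {X : Scheme.{u}} (f : X ⟶ Spec (CommRingCat.of k))

/-- The ground field in a local ring. -/
def kstalk (x : X) : k →+* (X.presheaf.stalk x : Type u) :=
  ((Scheme.ΓSpecIso (CommRingCat.of k)).inv ≫ f.appTop ≫ X.presheaf.germ ⊤ x trivial).hom

/-- The ground field in a residue field. -/
def kres (x : X) : k →+* (X.residueField x : Type u) := (X.residue x).hom.comp (kstalk f x)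

theorem stalkSpecializes_kstalk {x y : X} (h : x ⤳ y) (c : k) :
    X.presheaf.stalkSpecializes h (kstalk f y c) = kstalk f x c := by
  change X.presheaf.stalkSpecializes h (X.presheaf.germ ⊤ y trivial _) = X.presheaf.germ ⊤ x trivial _
  exact ConcreteCategory.congr_hom (TopCat.Presheaf.germ_stalkSpecializes X.presheaf (U := ⊤) (y := y) trivial h) _

theorem specMap_kstalk {x y : X} (h : x ⤳ y) (c : k) : Cyc.specMap y x h (kstalk f y c) = kres f x c := by
  change (X.residue x).hom (X.presheaf.stalkSpecializes h (kstalk f y c)) = _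
  rw [stalkSpecializes_kstalk]
  rfl

/-- The transcendence degree of a residue field. -/
def tr (x : X) : ℕ :=
  letI := (kres f x).toAlgebra
  Cardinal.toNat (Algebra.trdeg k (X.residueField x : Type u))

variable [LocallyOfFiniteType f]

theorem exists_le_dim {U : X.Opens} (hU : IsAffineOpen U) (x : X) (hx : x ∈ U) :
    letI := (kres f x).toAlgebra
    ∃ m : ℕ, Algebra.trdeg k (X.residueField x : Type u) = m ∧ (m : WithBot ℕ∞) ≤ ringKrullDim Γ(X, U) := by
  let K := (X.residueField x : Type u)
  letI : Algebra k K := (kres f x).toAlgebra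
  let ψ : CommRingCat.of k ⟶ Γ(X, U) := (Scheme.ΓSpecIso (CommRingCat.of k)).inv ≫ f.appLE ⊤ U le_top
  have hψ : ψ.hom.FiniteType := by
    refine RingHom.FiniteType.comp (f.finiteType_appLE (isAffineOpen_top _) hU le_top) ?_
    exact RingHom.FiniteType.of_surjective _ (Scheme.ΓSpecIso (CommRingCat.of k)).commRingCatIsoToRingEquiv.symm.surjective
  letI : Algebra k Γ(X, U) := ψ.hom.toAlgebra
  haveI : Algebra.FiniteType k Γ(X, U) := hψ
  let ev : Γ(X, U) →ₐ[k] K :=
    { (X.evaluation U x hx).hom with
      commutes' := fun r => by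
        change (X.residue x).hom (X.presheaf.germ U x hx (f.appLE ⊤ U le_top _)) = (X.residue x).hom _
        refine congrArg _ ?_
        change X.presheaf.germ U x hx (X.presheaf.map _ (f.appTop _)) = X.presheaf.germ ⊤ x trivial _
        exact TopCat.Presheaf.germ_res_apply X.presheaf _ x hx _ }
  let B := ev.range
  haveI : Algebra.FiniteType k B := Algebra.FiniteType.of_surjective ev.rangeRestrict ev.rangeRestrict_surjective
  obtain ⟨n, hn, hn'⟩ := GrothLib.Dim.exists_nat_trdeg_eq_and_ringKrullDim_eq k B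
  have hB : ringKrullDim B ≤ ringKrullDim Γ(X, U) :=
    ringKrullDim_le_of_surjective ev.rangeRestrict.toRingHom ev.rangeRestrict_surjective
  haveI : IsFractionRing B K := by
    refine IsFractionRing.of_field B K fun z => ?_
    obtain ⟨r, rfl⟩ := X.residue_surjective x z
    letI : Algebra Γ(X, U) (X.presheaf.stalk x) := TopCat.Presheaf.algebra_section_stalk X.presheaf (⟨x, hx⟩ : U)
    haveI := hU.isLocalization_stalk ⟨x, hx⟩
    obtain ⟨a, s, e⟩ := IsLocalization.exists_mk'_eq (hU.primeIdealOf ⟨x, hx⟩).asIdeal.primeCompl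
      (S := X.presheaf.stalk x) r
    refine ⟨⟨ev a, a, rfl⟩, ⟨ev s, s, rfl⟩, ?_⟩
    have h1 : r * algebraMap Γ(X, U) (X.presheaf.stalk x) s = algebraMap Γ(X, U) (X.presheaf.stalk x) a := by
      rw [← e, IsLocalization.mk'_spec]
    have h3 := congrArg (X.residue x).hom h1
    rw [map_mul] at h3
    change (X.residue x).hom r = ev a / ev s
    refine (eq_div_iff ?_).2 h3
    exact ((IsLocalization.map_units (X.presheaf.stalk x) s).map (X.residue x).hom).ne_zero
  haveI : FaithfulSMul k B := (faithfulSMul_iff_algebraMap_injective _ _).2 (algebraMap k B).injective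
  haveI := IsLocalization.isAlgebraic (R := B) (S := K) (nonZeroDivisors B)
  refine ⟨n, ?_, (hn' ▸ hB)⟩
  have h2 := trdeg_add_eq k B (A := K)
  rw [trdeg_eq_zero (R := B) (A := K), hn, add_zero] at h2
  exact h2.symm

theorem trdeg_eq_tr (x : X) :
    letI := (kres f x).toAlgebra
    Algebra.trdeg k (X.residueField x : Type u) = (tr f x : Cardinal) := by
  obtain ⟨_, ⟨A, hA, rfl⟩, hxA, -⟩ := X.isBasis_affineOpens.exists_subset_of_mem_open (Set.mem_univ x) isOpen_univ
  obtain ⟨m, hm, -⟩ := exists_le_dim f hA x hxA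
  rw [tr, hm, Cardinal.toNat_natCast]

theorem tr_le_of_affine {U : X.Opens} (hU : IsAffineOpen U) (x : X) (hx : x ∈ U) :
    (tr f x : WithBot ℕ∞) ≤ ringKrullDim Γ(X, U) := by
  obtain ⟨m, hm, hle⟩ := exists_le_dim f hU x hx
  rw [tr, hm, Cardinal.toNat_natCast]
  exact hle

theorem tr_le (x : X) (n : ℕ) (hn : topologicalKrullDim X ≤ n) : tr f x ≤ n := by
  obtain ⟨_, ⟨A, hA, rfl⟩, hxA, -⟩ := X.isBasis_affineOpens.exists_subset_of_mem_open (Set.mem_univ x) isOpen_univ
  have h := tr_le_of_affine f hA x hxA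
  rw [← GrothLib.Dim.topologicalKrullDim_affineOpen hA] at h
  exact_mod_cast (h.trans ((topologicalKrullDim_subspace_le X _).trans hn))

theorem exists_tr_bound [CompactSpace X] : ∃ n : ℕ, ∀ x : X, tr f x ≤ n := by
  classical
  have h : ∀ x : X, ∃ (U : X.Opens) (n : ℕ), x ∈ U ∧ ∀ z ∈ U, tr f z ≤ n := fun x => by
    obtain ⟨_, ⟨A, hA, rfl⟩, hxA, -⟩ := X.isBasis_affineOpens.exists_subset_of_mem_open (Set.mem_univ x) isOpen_univ
    obtain ⟨ψ, hψ, -⟩ := GrothLib.Dim.exists_finiteType_specMap f hA
    algebraize [ψ.hom]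
    haveI : Algebra.FiniteType k Γ(X, A) := hψ
    obtain ⟨m, φ, hφ⟩ := Algebra.FiniteType.iff_quotient_mvPolynomial''.1 (inferInstance : Algebra.FiniteType k Γ(X, A))
    refine ⟨A, m, hxA, fun z hz => ?_⟩
    have h1 := (tr_le_of_affine f hA z hz).trans (ringKrullDim_le_of_surjective φ.toRingHom hφ)
    rw [MvPolynomial.ringKrullDim_of_isNoetherianRing, ringKrullDim_eq_zero_of_field, zero_add] at h1
    have h2 : (tr f z : WithBot ℕ∞) ≤ (m : WithBot ℕ∞) := h1.trans (le_of_eq (by simp))
    exact_mod_cast h2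
  choose U n hxU hn using h
  obtain ⟨s, hs⟩ := isCompact_univ.elim_finite_subcover (fun x => ((U x : X.Opens) : Set X)) (fun x => (U x).2)
    (fun x _ => Set.mem_iUnion.2 ⟨x, hxU x⟩)
  refine ⟨s.sup n, fun z => ?_⟩
  obtain ⟨x, hxs, hz⟩ : ∃ x ∈ s, z ∈ U x := by
    simpa using hs (Set.mem_univ z)
  exact (hn x z hz).trans (Finset.le_sup (f := n) hxs)

variable [AlgebraicGeometry.IsNoetherian X]

omit [LocallyOfFiniteType f] [AlgebraicGeometry.IsNoetherian X] in
set_option maxHeartbeats 1000000 in
theorem isSepClosed_separableClosure {F L R : Type u} [Field F] [Field L] [Algebra F L] [CommRing R]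
    [HenselianLocalRing R] [IsSepClosed (ResidueField R)] (ρ : F →+* R) (π : R →+* L)
    (hker : ∀ r, π r = 0 → r ∈ maximalIdeal R) (hρ : algebraMap F L = π.comp ρ) :
    IsSepClosed (separableClosure F L) := by
  classical
  let E := separableClosure F L
  refine IsSepClosed.of_exists_root _ fun q hqm hqi hqs => ?_
  let Ω := AlgebraicClosure L
  obtain ⟨α, hα⟩ := IsAlgClosed.exists_aeval_eq_zero Ω q (by
    exact fun h => hqi.1 (Polynomial.isUnit_iff_degree_eq_zero.2 h))
  have hαE : IsSeparable E α := hqs.of_dvd (minpoly.dvd E α hα)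
  have hαF : IsSeparable F α := IsSeparable.of_algebra_isSeparable_of_isSeparable F hαE
  let g := minpoly F α
  let g' := g.map ρ
  have hgm : g.Monic := minpoly.monic hαF.isIntegral
  let g'' := g.map ((residue R).comp ρ)
  have hsep : g''.Separable := Polynomial.Separable.map hαF
  have hcard : g''.roots.toFinset.card = g.natDegree := by
    rw [Multiset.toFinset_card_of_nodup (Polynomial.nodup_roots hsep),
      ← (IsSepClosed.splits_of_separable g'' hsep).natDegree_eq_card_roots, Polynomial.natDegree_map]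
  have hlift : ∀ r : g''.roots.toFinset, ∃ a : R, g'.IsRoot a ∧ residue R a = r.1 := fun r => by
    have hr0 : g''.IsRoot r.1 := Polynomial.isRoot_of_mem_roots (Multiset.mem_toFinset.1 r.2)
    obtain ⟨a₀, ha₀⟩ := residue_surjective r.1
    have hgg : g'' = g'.map (residue R) := (Polynomial.map_map _ _ _).symm
    obtain ⟨a, ha, hd⟩ := HenselianLocalRing.is_henselian g' (hgm.map _) a₀ ((residue_eq_zero_iff _).1 (by
        rw [← Polynomial.eval_map_apply, ← hgg, ha₀]; exact hr0)) (by
      by_contra h
      have h0 : residue R (g'.derivative.eval a₀) = 0 := (residue_eq_zero_iff _).2 h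
      rw [← Polynomial.eval_map_apply, ← Polynomial.derivative_map, ← hgg, ha₀] at h0
      have h1 : Polynomial.eval₂ (RingHom.id _) r.1 g'' = 0 := hr0
      exact hsep.eval₂_derivative_ne_zero (RingHom.id _) h1 h0)
    refine ⟨a, ha, ?_⟩
    rw [← ha₀, ← sub_eq_zero, ← map_sub]
    exact (residue_eq_zero_iff _).2 hd
  choose lft hlr hlres using hlift
  let rt : g''.roots.toFinset → L := fun r => π (lft r)
  have hinj : Function.Injective rt := fun r r' h => by
    apply Subtype.ext
    rw [← hlres r, ← hlres r', ← sub_eq_zero, ← map_sub]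
    refine (residue_eq_zero_iff _).2 (hker _ ?_)
    rw [map_sub]
    exact sub_eq_zero.2 h
  have hroot : ∀ r, Polynomial.aeval (rt r) g = 0 := fun r => by
    have h0 : Polynomial.eval₂ ρ (lft r) g = 0 := by
      rw [← Polynomial.eval_map]; exact hlr r
    have h1 := congrArg π h0
    rw [Polynomial.hom_eval₂, map_zero] at h1
    rw [Polynomial.aeval_def]
    rw [hρ]; exact h1
  have hmem : α ∈ (Finset.univ.image fun r => algebraMap L Ω (rt r)) := by
    have hsub : (Finset.univ.image fun r => algebraMap L Ω (rt r)) ⊆ (g.aroots Ω).toFinset := fun z hz => by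
      obtain ⟨r, -, rfl⟩ := Finset.mem_image.1 hz
      rw [Multiset.mem_toFinset, Polynomial.mem_aroots]
      exact ⟨hgm.ne_zero, by rw [Polynomial.aeval_algebraMap_apply, hroot, map_zero]⟩
    have hc : (Finset.univ.image fun r => algebraMap L Ω (rt r)).card = g.natDegree := by
      rw [Finset.card_image_of_injective _ (f := fun r => algebraMap L Ω (rt r)) ((algebraMap L Ω).injective.comp hinj), Finset.card_univ,
        Fintype.card_coe, hcard]
    have he' : (Finset.univ.image fun r => algebraMap L Ω (rt r)) = (g.aroots Ω).toFinset := by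
      refine Finset.eq_of_subset_of_card_le hsub ?_
      rw [hc]
      refine (Multiset.toFinset_card_le _).trans ((Polynomial.card_roots' _).trans ?_)
      exact Polynomial.natDegree_map_le
    rw [he', Multiset.mem_toFinset, Polynomial.mem_aroots]
    exact ⟨hgm.ne_zero, minpoly.aeval F α⟩
  obtain ⟨r, -, hr⟩ := Finset.mem_image.1 hmem
  have hrE : rt r ∈ E := by
    rw [mem_separableClosure_iff]
    change (minpoly F (rt r)).Separable
    rw [← minpoly.algebraMap_eq (algebraMap L Ω).injective, hr]
    exact hαF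
  refine ⟨⟨rt r, hrE⟩, ?_⟩
  have h0 : Polynomial.aeval (algebraMap E Ω ⟨rt r, hrE⟩) q = 0 := by
    rw [show algebraMap E Ω ⟨rt r, hrE⟩ = α from hr]
    exact hα
  rw [Polynomial.aeval_algebraMap_apply] at h0
  have h1 := (algebraMap E Ω).injective (h0.trans (map_zero _).symm)
  rwa [Polynomial.coe_aeval_eq_eval] at h1

set_option maxHeartbeats 2000000 in
/-- The branches at a specialization. -/
theorem exists_branch_bound {x y : X} (hxy : x ⤳ y) (hne : x ≠ y)
    (R : Type u) [CommRing R] [IsLocalRing R] [Algebra (X.presheaf.stalk y) R]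
    [IsLocalHom (algebraMap (X.presheaf.stalk y) R)] [hR : _root_.Hensel.IsStrictHenselization (X.presheaf.stalk y) R]
    (P : Ideal R)
    (hP : P ∈ ((RingHom.ker (Cyc.specMap y x hxy)).map (algebraMap (X.presheaf.stalk y) R)).minimalPrimes)
    (p : ℕ) [Fact p.Prime] :
    ∃ d : ℕ, d + tr f y ≤ tr f x ∧ tr f y < tr f x ∧ KillVan (Spec (CommRingCat.of (FractionRing (R ⧸ P)))) p d := by
  classical
  let A := (X.presheaf.stalk y : Type u)
  let κx := (X.residueField x : Type u)
  let κy := (X.residueField y : Type u)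
  let s : A →+* κx := Cyc.specMap y x hxy
  letI : Algebra k A := (kstalk f y).toAlgebra
  letI : Algebra k κy := (kres f y).toAlgebra
  letI : Algebra k κx := (kres f x).toAlgebra
  have hy := trdeg_eq_tr f y
  have hx := trdeg_eq_tr f x
  -- independent elements
  haveI : FaithfulSMul k κy := (faithfulSMul_iff_algebraMap_injective _ _).2 (algebraMap k κy).injective
  obtain ⟨T, hT⟩ := exists_isTranscendenceBasis k κy
  choose u hu using fun t : T => X.residue_surjective y t.1
  let Pol := MvPolynomial T k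
  let F := FractionRing Pol
  let v : Pol →ₐ[k] A := MvPolynomial.aeval u
  let resA : A →ₐ[k] κy := { (X.residue y).hom with commutes' := fun _ => rfl }
  have hres : resA.comp v = MvPolynomial.aeval (fun t : T => (t.1 : κy)) := by
    refine MvPolynomial.algHom_ext fun t => ?_
    simp only [AlgHom.comp_apply, v, MvPolynomial.aeval_X]
    exact hu t
  have hunit : ∀ q : nonZeroDivisors Pol, IsUnit (v q) := fun q => by
    by_contra h
    have h0 : resA (v q) = 0 := (IsLocalRing.residue_eq_zero_iff _).2 h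
    rw [← AlgHom.comp_apply, hres] at h0
    exact nonZeroDivisors.ne_zero q.2 (hT.1 (h0.trans (map_zero _).symm))
  let χ : F →+* A := IsLocalization.lift (g := v.toRingHom) hunit
  have hχk : ∀ c : k, χ (algebraMap k F c) = kstalk f y c := fun c => by
    rw [IsScalarTower.algebraMap_apply k Pol F, IsLocalization.lift_eq]
    exact v.commutes c
  have htF : Algebra.trdeg k F = (tr f y : Cardinal) := by
    haveI := IsLocalization.isAlgebraic (R := Pol) (S := F) (nonZeroDivisors Pol)
    rw [← trdeg_add_eq k Pol (A := F), trdeg_eq_zero (R := Pol) (A := F), add_zero, MvPolynomial.trdeg_of_isDomain,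
      Cardinal.lift_id, hT.cardinalMk_eq_trdeg, hy]
  -- the residue field above
  letI : Algebra F κx := (s.comp χ).toAlgebra
  haveI : IsScalarTower k F κx := IsScalarTower.of_algebraMap_eq fun c => by
    change kres f x c = s (χ (algebraMap k F c))
    rw [hχk]
    exact (specMap_kstalk f hxy c).symm
  have hFx := trdeg_add_eq k F (A := κx)
  rw [htF, hx] at hFx
  obtain ⟨e, he⟩ : ∃ e : ℕ, Algebra.trdeg F κx = e :=
    Cardinal.lt_aleph0.1 (lt_of_le_of_lt (le_add_self.trans hFx.le) (Cardinal.natCast_lt_aleph0))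
  rw [he] at hFx
  have hsum : tr f y + e = tr f x := by exact_mod_cast hFx
  have hpos : e ≠ 0 := by
    intro h0
    haveI : Algebra.IsAlgebraic F κx := trdeg_eq_zero_iff.1 (by rw [he, h0, Nat.cast_zero])
    have hne' : RingHom.ker s ≠ maximalIdeal A := fun h => by
      have h1 := height_ker_specMap hxy
      rw [h] at h1
      have h2 : ((maximalIdeal A).height : WithBot ℕ∞) = (cod X y : WithBot ℕ∞) :=
        (IsLocalRing.maximalIdeal_height_eq_ringKrullDim (R := A)).trans (cod_spec X y)
      rw [h1] at h2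
      have h3 : cod X x = cod X y := by exact_mod_cast h2
      exact (cod_lt hxy hne).ne h3
    obtain ⟨a, ham, has⟩ : ∃ a ∈ maximalIdeal A, a ∉ RingHom.ker s := by
      by_contra h
      push Not at h
      exact hne' (le_antisymm (le_maximalIdeal (RingHom.ker_ne_top _)) h)
    let S : Subalgebra F κx :=
      { s.range with
        algebraMap_mem' := fun z => ⟨χ z, rfl⟩ }
    have hinv : (s a)⁻¹ ∈ S :=
      S.inv_mem_of_algebraic (x := (⟨s a, a, rfl⟩ : S)) (Algebra.IsAlgebraic.isAlgebraic (R := F) (s a))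
    obtain ⟨a', ha'⟩ := hinv
    have h1 : a * a' - 1 ∈ RingHom.ker s := by
      rw [RingHom.mem_ker, map_sub, map_mul, map_one, ha', mul_inv_cancel₀ (fun h => has h), sub_self]
    have h2 : (1 : A) ∈ maximalIdeal A := by
      have := (maximalIdeal A).sub_mem (Ideal.mul_mem_right a' _ ham) (le_maximalIdeal (RingHom.ker_ne_top _) h1)
      rwa [sub_sub_cancel] at this
    exact (maximalIdeal.isMaximal A).ne_top ((Ideal.eq_top_iff_one _).2 h2)
  refine ⟨e, by omega, by omega, ?_⟩
  -- the branch
  haveI : HenselianLocalRing R := hR.henselian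
  haveI : IsSepClosed (ResidueField R) := hR.isSepClosure.sep_closed
  haveI : P.IsPrime := hP.1.1
  haveI := GrothLib.Hensel.IsStrictHenselization.flat (R := A) (S := R)
  haveI : (RingHom.ker s).IsPrime := RingHom.ker_isPrime _
  let L := FractionRing (R ⧸ P)
  let π : R →+* L := (algebraMap (R ⧸ P) L).comp (Ideal.Quotient.mk P)
  have hπ : ∀ r, π r = 0 ↔ r ∈ P := fun r => by
    change algebraMap (R ⧸ P) L (Ideal.Quotient.mk P r) = 0 ↔ _
    rw [map_eq_zero_iff _ (IsFractionRing.injective (R ⧸ P) L), Ideal.Quotient.eq_zero_iff_mem]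
  have hcomap : P.comap (algebraMap A R) = RingHom.ker s := by
    refine le_antisymm ?_ (Ideal.map_le_iff_le_comap.1 hP.1.2)
    haveI : P.LiesOver (P.comap (algebraMap A R)) := ⟨rfl⟩
    obtain ⟨Q, hQP, hQ, hQo⟩ := Ideal.exists_ideal_le_liesOver_of_le (p := RingHom.ker s) (q := P.comap (algebraMap A R))
      P (Ideal.map_le_iff_le_comap.1 hP.1.2)
    have hQ' : (RingHom.ker s).map (algebraMap A R) ≤ Q :=
      Ideal.map_le_iff_le_comap.2 hQo.over.le
    rw [le_antisymm (hP.2 ⟨hQ, hQ'⟩ hQP) hQP]
    exact hQo.over.symm.le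
  let σ₀ : A →+* L := π.comp (algebraMap A R)
  have hσ₀ : ∀ a, σ₀ a = 0 ↔ s a = 0 := fun a => by
    change π (algebraMap A R a) = 0 ↔ _
    rw [hπ, ← Ideal.mem_comap, hcomap, RingHom.mem_ker]
  have hfrac : ∀ z : κx, ∃ a b : A, s b ≠ 0 ∧ z * s b = s a := fun z => by
    obtain ⟨a, b, hb, hab⟩ := GrothLib.CycDiv.exists_frac hxy z
    exact ⟨a, b, hb, hab⟩
  choose num den hden hnum using hfrac
  have hσd : ∀ z, σ₀ (den z) ≠ 0 := fun z h => hden z ((hσ₀ _).1 h)
  have hker : ∀ a b, s a = s b → σ₀ a = σ₀ b := fun a b h => by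
    rw [← sub_eq_zero, ← map_sub, hσ₀, map_sub, h, sub_self]
  let σ : κx →+* L :=
    { toFun := fun z => σ₀ (num z) / σ₀ (den z)
      map_one' := by
        rw [div_eq_one_iff_eq (hσd 1)]
        exact hker _ _ (by rw [← hnum 1, one_mul])
      map_zero' := by
        rw [div_eq_zero_iff]
        left
        rw [hσ₀, ← hnum 0, zero_mul]
      map_mul' := fun a b => by
        rw [div_mul_div_comm, div_eq_div_iff (hσd _) (mul_ne_zero (hσd _) (hσd _)), ← map_mul, ← map_mul,
          ← map_mul, ← map_mul]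
        exact hker _ _ (by simp only [map_mul, ← hnum]; ring)
      map_add' := fun a b => by
        rw [div_add_div _ _ (hσd _) (hσd _), div_eq_div_iff (hσd _) (mul_ne_zero (hσd _) (hσd _))]
        simp only [← map_mul, ← map_add]
        exact hker _ _ (by simp only [map_mul, map_add, ← hnum]; ring) }
  have hσs : ∀ a, σ (s a) = σ₀ a := fun a => by
    change σ₀ (num (s a)) / σ₀ (den (s a)) = σ₀ a
    rw [div_eq_iff (hσd _), ← map_mul]
    exact hker _ _ (by rw [map_mul, ← hnum])
  letI : Algebra κx L := σ.toAlgebra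
  letI : Algebra k L := (σ.comp (algebraMap k κx)).toAlgebra
  haveI : IsScalarTower k κx L := IsScalarTower.of_algebraMap_eq fun _ => rfl
  letI : Algebra F L := (σ.comp (algebraMap F κx)).toAlgebra
  haveI : IsScalarTower F κx L := IsScalarTower.of_algebraMap_eq fun _ => rfl
  haveI : IsScalarTower k F L := IsScalarTower.of_algebraMap_eq fun c => by
    change σ (algebraMap k κx c) = σ (algebraMap F κx (algebraMap k F c))
    rw [← IsScalarTower.algebraMap_apply]
  haveI : Algebra.IsAlgebraic κx L := by
    let Sub : IntermediateField κx L := algebraicClosure κx L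
    refine ⟨fun z => ?_⟩
    obtain ⟨n, d, hd, rfl⟩ := IsFractionRing.div_surjective (R ⧸ P) z
    have hmem : ∀ r : R, IsIntegral κx (π r) := fun r => by
      obtain ⟨N, _, _, _, ψ, hψ⟩ := GrothLib.Hensel.IsStrictHenselization.etaleStages (A := A) (S := R) {r}
      obtain ⟨m, rfl⟩ := hψ r (Finset.mem_singleton_self r)
      letI : Algebra A κx := s.toAlgebra
      haveI : Module.Finite κx (κx ⊗[A] N) := Algebra.FormallyUnramified.finite_of_free κx (κx ⊗[A] N)
      have hAL : ∀ a, algebraMap A L a = σ₀ a := fun a => (IsScalarTower.algebraMap_apply A (R ⧸ P) L a).trans rfl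
      haveI : IsScalarTower A κx L := IsScalarTower.of_algebraMap_eq fun a => (hAL a).trans (hσs a).symm
      let πA : R →ₐ[A] L := { π with commutes' := fun a => (hAL a).symm }
      let Φ : κx ⊗[A] N →ₐ[κx] L :=
        Algebra.TensorProduct.lift (Algebra.ofId κx L) (πA.comp ψ) fun _ _ => Commute.all _ _
      have := (IsIntegral.of_finite κx ((1 : κx) ⊗ₜ[A] m)).map Φ
      simpa [Φ, πA] using this
    obtain ⟨n, rfl⟩ := Ideal.Quotient.mk_surjective n
    obtain ⟨d, rfl⟩ := Ideal.Quotient.mk_surjective d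
    exact mem_algebraicClosure_iff.1 (div_mem (S := IntermediateField κx L)
      (mem_algebraicClosure_iff.2 (hmem n).isAlgebraic : π n ∈ Sub)
      (mem_algebraicClosure_iff.2 (hmem d).isAlgebraic : π d ∈ Sub))
  have hL : Algebra.trdeg F L = e := by
    rw [← trdeg_add_eq F κx (A := L), trdeg_eq_zero (R := κx) (A := L), add_zero, he]
  -- the separable closure of the coefficient field
  let E := separableClosure F L
  have hFL : ∀ z : F, algebraMap F L z = π (algebraMap A R (χ z)) := fun z => hσs (χ z)
  haveI : IsSepClosed E := isSepClosed_separableClosure ((algebraMap A R).comp χ) π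
    (fun r hr => le_maximalIdeal hP.1.1.ne_top ((hπ r).1 hr)) (RingHom.ext hFL)
  have hE : Algebra.trdeg E L ≤ e := by
    rw [← hL, ← trdeg_add_eq F E (A := L)]
    exact le_add_self
  intro G hG q hq
  exact killVan_trdeg p e E L hE 0 (killVan_sepClosed E p 0) G hG q (by omega)

/-- The bound `2n + e`. -/
theorem killVan_finiteType (p : ℕ) [Fact p.Prime] (e n : ℕ) (hn : ∀ x : X, tr f x ≤ n)
    (he : KillVan (Spec (CommRingCat.of k)) p e) (G : EtCoh.Ab X) (hG : p • 𝟙 G = 0) (q : ℕ) (hq : 2 * n + e < q) :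
    ∀ z : EtCoh.H X G q, z = 0 := by
  intro z
  have h1 : ∀ x : X, KillVan (Spec (X.residueField x)) p (2 * tr f x + e) := fun x => by
    letI := (kres f x).toAlgebra
    have := killVan_trdeg p (tr f x) k (X.residueField x : Type u) (trdeg_eq_tr f x).le e he
    exact fun G hG r hr => this G hG r (by omega)
  have h2 : ∀ (x y : X) (hxy : x ⤳ y), x ≠ y →
      ∀ (R : Type u) [CommRing R] [IsLocalRing R] [Algebra (X.presheaf.stalk y) R]
        [IsLocalHom (algebraMap (X.presheaf.stalk y) R)] [_root_.Hensel.IsStrictHenselization (X.presheaf.stalk y) R],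
      ∀ P ∈ ((RingHom.ker (Cyc.specMap y x hxy)).map (algebraMap (X.presheaf.stalk y) R)).minimalPrimes,
        ∃ d : ℕ, d + 1 + (2 * tr f y + e) ≤ 2 * tr f x + e ∧
          KillVan (Spec (CommRingCat.of (FractionRing (R ⧸ P)))) p d := by
    intro x y hxy hne R _ _ _ _ hR P hP
    obtain ⟨d, hd, hlt, hk⟩ := exists_branch_bound f hxy hne R P hP p
    exact ⟨d, by omega, hk⟩
  exact van_stable (Fact.out : p.Prime).ne_zero (fun x => 2 * tr f x + e) (E := Set.univ) (fun _ _ _ h => h)
    (fun Z _ => van_closed p (fun x => 2 * tr f x + e) h1 h2 (Fact.out : p.Prime).ne_zero Z) G hG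
    (fun Ω _ _ ξ h => absurd (Set.mem_univ _) h) q (fun x _ => lt_of_le_of_lt (show 2 * tr f x + e ≤ 2 * n + e from Nat.add_le_add_right (Nat.mul_le_mul_left 2 (hn x)) e) hq) z

end GrothLib.FieldExtCd18
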