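import Mathlib.RingTheory.Henselian
import Mathlib.RingTheory.AdjoinRoot
import Mathlib.FieldTheory.PrimitiveElement
import Mathlib.FieldTheory.IsSepClosed
import Mathlib.FieldTheory.IntermediateField.Adjoin.Basic

/-!
# Separable extensions lift to henselian local rings
-/

set_option autoImplicit false

universe u

open IsLocalRing Polynomial

namespace GrothLib.FieldExtCd18

variable {K R E : Type u} [Field K] [CommRing R] [HenselianLocalRing R] [Algebra K R] [Field E] [Algebra K E]
  [Algebra.IsSeparable K E]

theorem residue_aeval (q : K[X]) (b : R) : residue R (aeval b q) = aeval (residue R b) q :=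
  (Polynomial.aeval_algHom_apply (IsScalarTower.toAlgHom K R (ResidueField R)) b q).symm

theorem isUnit_derivative (j : E →ₐ[K] ResidueField R) (x : E) (a : R) (ha : residue R a = j x) :
    IsUnit (aeval a (derivative (minpoly K x))) := by
  by_contra h
  have h0 := (residue_eq_zero_iff _).2 h
  rw [residue_aeval, ha, Polynomial.aeval_algHom_apply, map_eq_zero] at h0
  exact (Algebra.IsSeparable.isSeparable K x).aeval_derivative_ne_zero (minpoly.aeval K x) h0

theorem root_unique (j : E →ₐ[K] ResidueField R) (x : E) (a b : R) (ha : residue R a = j x)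
    (hb : residue R b = j x) (ha0 : aeval a (minpoly K x) = 0) (hb0 : aeval b (minpoly K x) = 0) : a = b := by
  obtain ⟨c, hc⟩ := Polynomial.binomExpansion ((minpoly K x).map (algebraMap K R)) a (b - a)
  rw [add_sub_cancel, derivative_map, eval_map_algebraMap, eval_map_algebraMap, eval_map_algebraMap, ha0, hb0] at hc
  have hm : b - a ∈ maximalIdeal R := (residue_eq_zero_iff _).1 (by rw [map_sub, ha, hb, sub_self])
  have hu : IsUnit (aeval a (derivative (minpoly K x)) + c * (b - a)) := by
    by_contra h
    have h1 : aeval a (derivative (minpoly K x)) + c * (b - a) ∈ maximalIdeal R := h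
    have h2 := (maximalIdeal R).sub_mem h1 ((maximalIdeal R).mul_mem_left c hm)
    rw [add_sub_cancel_right] at h2
    exact h2 (isUnit_derivative j x a ha)
  have h3 : (b - a) * (aeval a (derivative (minpoly K x)) + c * (b - a)) = 0 := by linear_combination (-1 : R) * hc
  exact (sub_eq_zero.1 (hu.mul_left_eq_zero.1 h3)).symm

theorem exists_root_lift (j : E →ₐ[K] ResidueField R) (x : E) :
    ∃ a : R, aeval a (minpoly K x) = 0 ∧ residue R a = j x := by
  obtain ⟨a₀, ha₀⟩ := residue_surjective (j x)
  have hm : (minpoly K x).Monic := minpoly.monic (Algebra.IsSeparable.isSeparable K x).isIntegral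
  obtain ⟨a, ha, hd⟩ := HenselianLocalRing.is_henselian ((minpoly K x).map (algebraMap K R)) (hm.map _) a₀ (by
      rw [← residue_eq_zero_iff, eval_map_algebraMap, residue_aeval, ha₀, Polynomial.aeval_algHom_apply,
        minpoly.aeval, map_zero])
    (by rw [derivative_map, eval_map_algebraMap]; exact isUnit_derivative j x a₀ ha₀)
  refine ⟨a, by rwa [IsRoot, eval_map_algebraMap] at ha, ?_⟩
  rw [← ha₀, ← sub_eq_zero, ← map_sub, residue_eq_zero_iff]
  exact hd

/-- A separable extension maps to a henselian local ring as soon as it maps to the residue field. -/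
theorem nonempty_algHom_henselian (j : E →ₐ[K] ResidueField R) : Nonempty (E →ₐ[K] R) := by
  choose σ hσ0 hσj using exists_root_lift j
  have hfin : ∀ x y : E, ∃ (L : IntermediateField K E) (ψ : L →ₐ[K] R), x ∈ L ∧ y ∈ L ∧ ∀ z : L, ψ z = σ z := by
    intro x y
    let L := IntermediateField.adjoin K ({x, y} : Set E)
    haveI : FiniteDimensional K L :=
      IntermediateField.finiteDimensional_adjoin fun z _ => (Algebra.IsSeparable.isSeparable K z).isIntegral
    haveI : Algebra.IsSeparable K L := Algebra.isSeparable_tower_bot_of_isSeparable K L E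
    let pb := Field.powerBasisOfFiniteOfSeparable K L
    let jL : L →ₐ[K] ResidueField R := j.comp L.val
    obtain ⟨a, ha0, haj⟩ := exists_root_lift jL pb.gen
    let ψ : L →ₐ[K] R := pb.lift a ha0
    refine ⟨L, ψ, IntermediateField.subset_adjoin K _ (by simp), IntermediateField.subset_adjoin K _ (by simp),
      fun z => root_unique j z.1 _ _ ?_ (hσj _) ?_ (hσ0 _)⟩
    · have hcomp : (IsScalarTower.toAlgHom K R (ResidueField R)).comp ψ = jL := pb.algHom_ext (by
        change residue R (pb.lift a ha0 pb.gen) = _
        rw [PowerBasis.lift_gen, haj])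
      exact congr($hcomp z)
    · rw [Polynomial.aeval_algHom_apply, show minpoly K (z.1 : E) = minpoly K z from
        minpoly.algHom_eq L.val Subtype.val_injective z, minpoly.aeval, map_zero]
  refine ⟨{ toFun := σ, map_one' := ?_, map_mul' := ?_, map_zero' := ?_, map_add' := ?_, commutes' := ?_ }⟩
  · obtain ⟨L, ψ, -, -, h⟩ := hfin 1 1
    exact (h 1).symm.trans (map_one ψ)
  · intro x y
    obtain ⟨L, ψ, hx, hy, h⟩ := hfin x y
    exact ((h (⟨x, hx⟩ * ⟨y, hy⟩)).symm.trans (map_mul ψ _ _)).trans (congrArg₂ (· * ·) (h _) (h _))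
  · obtain ⟨L, ψ, -, -, h⟩ := hfin 1 1
    exact (h 0).symm.trans (map_zero ψ)
  · intro x y
    obtain ⟨L, ψ, hx, hy, h⟩ := hfin x y
    exact ((h (⟨x, hx⟩ + ⟨y, hy⟩)).symm.trans (map_add ψ _ _)).trans (congrArg₂ (· + ·) (h _) (h _))
  · intro c
    obtain ⟨L, ψ, -, -, h⟩ := hfin 1 1
    exact (h (algebraMap K L c)).symm.trans (ψ.commutes c)

end GrothLib.FieldExtCd18
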