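import Groth.Agent.Lib.FieldExtCd18.AllPrimes
import Groth.Agent.Lib.EtLimit.CdLimit
import Groth.Agent.Lib.EtLimit.StalkRpush
import Groth.Agent.Lib.EtBasicB.OverField
import Groth.Agent.Lib.Weight.GeomPoints
import Groth.Agent.Lib.FieldExtCd18.SepLift
import Mathlib.AlgebraicGeometry.Morphisms.Etale

/-!
# Relative cohomological dimension over a field
-/

set_option autoImplicit false
set_option backward.isDefEq.respectTransparency false
set_option backward.isDefEq.respectTransparency.types false
set_option linter.style.haveILetI false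
set_option linter.all false

universe u

open CategoryTheory CategoryTheory.Limits AlgebraicGeometry Opposite IsLocalRing
open GrothLib.DimFun18

noncomputable section

namespace GrothLib.FieldExtCd18

variable {k : Type u} [Field k] {X : Scheme.{u}} (a : X ⟶ Spec (CommRingCat.of k))

theorem kres_comp {W : Scheme.{u}} (b : W ⟶ X) (z : W) (c : k) :
    (b.residueFieldMap z).hom (kres a (b.base z) c) = kres (b ≫ a) z c := by
  change (b.residueFieldMap z).hom ((X.residue (b.base z)).hom (kstalk a (b.base z) c)) =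
    (W.residue z).hom (kstalk (b ≫ a) z c)
  refine (congr($(Scheme.residue_residueFieldMap b z) (kstalk a (b.base z) c))).trans ?_
  refine congrArg (W.residue z).hom ?_
  change b.stalkMap z (X.presheaf.germ ⊤ (b.base z) trivial _) = W.presheaf.germ ⊤ z trivial _
  exact Scheme.Hom.germ_stalkMap_apply b ⊤ z trivial _

theorem tr_comp_le {W : Scheme.{u}} (b : W ⟶ X) [LocallyQuasiFinite b] [LocallyOfFiniteType b]
    [LocallyOfFiniteType a] (z : W) : tr (b ≫ a) z ≤ tr a (b.base z) := by
  letI := (kres (b ≫ a) z).toAlgebra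
  letI := (kres a (b.base z)).toAlgebra
  letI := (b.residueFieldMap z).hom.toAlgebra
  haveI : IsScalarTower k (X.residueField (b.base z) : Type u) (W.residueField z : Type u) :=
    IsScalarTower.of_algebraMap_eq fun c => (kres_comp a b z c).symm
  haveI : Module.Finite (X.residueField (b.base z) : Type u) (W.residueField z : Type u) :=
    Weight.finite_residueFieldMap b z
  haveI : Algebra.IsAlgebraic (X.residueField (b.base z) : Type u) (W.residueField z : Type u) :=
    Algebra.IsAlgebraic.of_finite _ _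
  have h := trdeg_add_eq k (X.residueField (b.base z) : Type u) (A := (W.residueField z : Type u))
  rw [trdeg_eq_zero (R := (X.residueField (b.base z) : Type u)) (A := (W.residueField z : Type u)), add_zero,
    trdeg_eq_tr a, trdeg_eq_tr (b ≫ a)] at h
  exact le_of_eq (by exact_mod_cast h.symm)

/-- All schemes quasi-finite over `X` have bounded dimension. -/
theorem cohDimLE_of_quasiFinite [LocallyOfFiniteType a] (e n : ℕ) (hn : ∀ x : X, tr a x ≤ n)
    (hK : EtCoh.CohDimLE (Spec (CommRingCat.of k)) e) {W : Scheme.{u}} (b : W ⟶ X) [LocallyQuasiFinite b]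
    [LocallyOfFiniteType b] [CompactSpace W] : EtCoh.CohDimLE W (2 * n + e) := by
  haveI : IsLocallyNoetherian W := LocallyOfFiniteType.isLocallyNoetherian (b ≫ a)
  haveI : AlgebraicGeometry.IsNoetherian W := {}
  intro F hF q hq
  refine subsingleton_H_of_primes W q (fun p hp G hG => ?_) F hF
  haveI : Fact p.Prime := ⟨hp⟩
  have hz := killVan_finiteType (b ≫ a) p e n (fun z => (tr_comp_le a b z).trans (hn _))
    (fun G' hG' r hr => hK G' (GrothLib.GalCd.isTorsion_of_killed hp.ne_zero hG') r hr) G hG q hq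
  exact ⟨fun x y => (hz x).trans (hz y).symm⟩

variable {S : Scheme.{u}} {f : X ⟶ S} {Ω : Type u} [Field Ω] [IsSepClosed Ω]
  {η : Spec (CommRingCat.of Ω) ⟶ S} {N : GrothLib.EtSec.ProNbhd η}
  {P : Scheme.{u}} {q : P ⟶ N.c.pt} {pr : P ⟶ X} (hP : IsPullback q pr N.bc f)

include hP in
theorem cohDimLE_strictLocal [LocallyOfFiniteType a] [QuasiCompact f] [QuasiSeparated f] (e n : ℕ)
    (hn : ∀ x : X, tr a x ≤ n) (hK : EtCoh.CohDimLE (Spec (CommRingCat.of k)) e) :
    EtCoh.CohDimLE P (2 * n + e) := by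
  obtain ⟨i₀⟩ := IsCofiltered.nonempty (C := N.I)
  haveI := N.affine
  haveI : ∀ i, Etale (N.b i) := N.etale
  haveI : ∀ (i j : N.I) (φ : i ⟶ j), IsAffineHom (N.D.map φ) := fun _ _ _ => isAffineHom_of_isAffine _
  let g : pullback (N.b i₀) f ⟶ N.D.obj i₀ := pullback.fst (N.b i₀) f
  haveI : QuasiCompact g := MorphismProperty.pullback_fst _ _ ‹QuasiCompact f›
  haveI : QuasiSeparated g := MorphismProperty.pullback_fst _ _ ‹QuasiSeparated f›
  haveI : CompactSpace ↥(pullback (N.b i₀) f) := QuasiCompact.compactSpace_of_compactSpace g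
  haveI : QuasiSeparatedSpace ↥(pullback (N.b i₀) f) := quasiSeparatedSpace_of_quasiSeparated g
  haveI : ∀ (j k : Over i₀) (φ : j ⟶ k), IsAffineHom ((GrothLib.LimDesc.diag N.D i₀ g).map φ) :=
    fun j k φ => GrothLib.LimDesc.isAffineHom_map N.D i₀ g φ
  haveI : ∀ j : Over i₀, CompactSpace ↥((GrothLib.LimDesc.diag N.D i₀ g).obj j) :=
    fun j => GrothLib.LimDesc.compactSpace_obj N.D i₀ g j
  haveI : ∀ j : Over i₀, QuasiSeparatedSpace ↥((GrothLib.LimDesc.diag N.D i₀ g).obj j) :=
    fun j => GrothLib.LimDesc.quasiSeparatedSpace_obj N.D i₀ g j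
  let q₀ : P ⟶ pullback (N.b i₀) f :=
    pullback.lift (q ≫ N.c.π.app i₀) pr (by rw [Category.assoc, N.hbc, hP.w])
  have hQ : IsPullback q₀ q g (N.c.π.app i₀) := by
    refine IsPullback.of_right ?_ (pullback.lift_fst _ _ _) (IsPullback.of_hasPullback (N.b i₀) f).flip
    rw [pullback.lift_snd, N.hbc]
    exact hP.flip
  refine GrothLib.EtLimit.cdLE_limit (GrothLib.LimDesc.diag N.D i₀ g) (fun _ _ φ => inferInstance)
    (fun _ => inferInstance) (fun _ => inferInstance) (GrothLib.LimDesc.cone N.D i₀ g hQ)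
    (GrothLib.LimDesc.isLimitCone N.D i₀ g hQ N.hc) _ fun j => ?_
  let b : (GrothLib.LimDesc.diag N.D i₀ g).obj j ⟶ X :=
    pullback.fst g (N.D.map j.hom) ≫ pullback.snd (N.b i₀) f
  haveI : Etale b := by
    haveI : Etale (N.D.map j.hom ≫ N.b i₀) := by rw [N.hb]; exact N.etale _
    haveI : Etale (N.D.map j.hom) := Etale.of_comp _ (N.b i₀)
    haveI : Etale (pullback.fst g (N.D.map j.hom)) := MorphismProperty.pullback_fst _ _ inferInstance
    haveI : Etale (pullback.snd (N.b i₀) f) := MorphismProperty.pullback_snd _ _ (N.etale i₀)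
    exact (inferInstance : Etale (pullback.fst g (N.D.map j.hom) ≫ pullback.snd (N.b i₀) f))
  haveI : LocallyQuasiFinite b := GrothLib.EtBasicB.locallyQuasiFinite_of_unramified b
  exact cohDimLE_of_quasiFinite a e n hn hK b

set_option maxHeartbeats 1600000 in
/-- The relative bound. -/
theorem exists_relCohDimLE {Y : Scheme.{u}} [LocallyOfFiniteType a] [QuasiCompact a] (g : X ⟶ Y) [EtCoh.BCCont g]
    [QuasiCompact g] [QuasiSeparated g] (bY : Y ⟶ Spec (CommRingCat.of k)) (w : g ≫ bY = a) :
    ∃ d : ℕ, EtCoh.RelCohDimLE g d := by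
  let Ks := SeparableClosure k
  let ι : Spec (CommRingCat.of Ks) ⟶ Spec (CommRingCat.of k) := Spec.map (CommRingCat.ofHom (algebraMap k Ks))
  let Xs := pullback a ι
  let as : Xs ⟶ Spec (CommRingCat.of Ks) := pullback.snd a ι
  let v : Xs ⟶ X := pullback.fst a ι
  haveI : IsAffineHom v := MorphismProperty.pullback_fst _ _ inferInstance
  haveI : LocallyOfFiniteType as := MorphismProperty.pullback_snd _ _ inferInstance
  haveI : QuasiCompact as := MorphismProperty.pullback_snd _ _ inferInstance
  haveI : CompactSpace Xs := QuasiCompact.compactSpace_of_compactSpace as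
  obtain ⟨n, hn⟩ := exists_tr_bound as
  have hKs : EtCoh.CohDimLE (Spec (CommRingCat.of Ks)) 0 :=
    cohDimLE_of_killVan Ks 0 fun p hp => killVan_sepClosed Ks p 0
  refine ⟨2 * n + 0, fun F hF q hq => ?_⟩
  refine (IsZero.iff_id_eq_zero _).2 (GrothLib.ExtZero.zero_of_stalks _ fun Ω _ _ ξ => ?_)
  let y : Y := ξ.base (default : Spec (CommRingCat.of Ω))
  let R := GrothLib.Hensel.StrictHens (Y.presheaf.stalk y : Type u)
  haveI hR : _root_.Hensel.IsStrictHenselization (Y.presheaf.stalk y : Type u) R := inferInstance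
  haveI : IsSepClosed (ResidueField R) := hR.isSepClosure.sep_closed
  haveI : HenselianLocalRing R := hR.henselian
  obtain ⟨N, e', he'⟩ := GrothLib.EtLimit.exists_proNbhd_hens Y y R
  let ψ : CommRingCat.of k ⟶ CommRingCat.of R := Spec.preimage (Hens2.specOf Y y R ≫ bY)
  letI : Algebra k R := ψ.hom.toAlgebra
  let j : Ks →ₐ[k] ResidueField R := IsSepClosed.lift
  obtain ⟨σ⟩ := nonempty_algHom_henselian j
  let σs : Spec (CommRingCat.of R) ⟶ Spec (CommRingCat.of Ks) := Spec.map (CommRingCat.ofHom σ.toRingHom)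
  have hσ : σs ≫ ι = Hens2.specOf Y y R ≫ bY := by
    change Spec.map _ ≫ Spec.map _ = _
    rw [← Spec.map_comp, ← Spec.map_preimage (Hens2.specOf Y y R ≫ bY)]
    exact congrArg Spec.map (CommRingCat.hom_ext σ.comp_algebraMap)
  let P := pullback N.bc g
  let Ps := pullback N.bc (v ≫ g)
  let s : P ⟶ Ps := pullback.lift (pullback.fst N.bc g)
    (pullback.lift (pullback.snd N.bc g) (pullback.fst N.bc g ≫ e'.inv ≫ σs) (by
      rw [Category.assoc, Category.assoc, hσ, ← he', Category.assoc, Iso.inv_hom_id_assoc, ← w,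
        pullback.condition_assoc]))
    (by rw [← Category.assoc (pullback.lift _ _ _), pullback.lift_fst, pullback.condition])
  let π : Ps ⟶ P := pullback.lift (pullback.fst N.bc (v ≫ g)) (pullback.snd N.bc (v ≫ g) ≫ v)
    (by rw [pullback.condition, Category.assoc])
  haveI : IsAffine N.c.pt := N.affine_pt
  haveI : IsSeparated N.bc := IsSeparated.of_comp N.bc bY
  haveI : IsSeparated (pullback.snd N.bc (v ≫ g)) := MorphismProperty.pullback_snd _ _ inferInstance
  haveI : IsSeparated π := by
    haveI : IsSeparated (π ≫ pullback.snd N.bc g) := by rw [pullback.lift_snd]; infer_instance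
    exact IsSeparated.of_comp π (pullback.snd N.bc g)
  have hsπ : s ≫ π = 𝟙 P := by
    refine pullback.hom_ext ?_ ?_
    · rw [Category.assoc, pullback.lift_fst, pullback.lift_fst, Category.id_comp]
    · rw [Category.assoc, pullback.lift_snd, ← Category.assoc, pullback.lift_snd, pullback.lift_fst, Category.id_comp]
  haveI : IsClosedImmersion (s ≫ π) := by rw [hsπ]; infer_instance
  haveI : IsClosedImmersion s := IsClosedImmersion.of_comp s π
  have hPs : IsPullback (pullback.fst N.bc (v ≫ g)) (pullback.snd N.bc (v ≫ g)) N.bc (v ≫ g) :=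
    IsPullback.of_hasPullback _ _
  have hcd := cohDimLE_strictLocal as hPs 0 n hn hKs
  let F' := (EtCoh.pull (pullback.snd N.bc g)).obj F
  haveI := hcd ((EtCoh.push s).obj F')
    (GrothLib.EtLimit.isTorsion_push _ (GrothLib.CdBr2.isTorsion_pull (pullback.snd N.bc g) hF)) q hq
  haveI := GrothLib.EtDer.pullFL s
  haveI : Subsingleton (EtCoh.H P F' q) :=
    (Groth.Agent.S14451.result s F' (fun r hr => GrothLib.EtSite.isZero_Rpush_of_integral s F' r hr) q).2.subsingleton
  obtain ⟨θ⟩ := GrothLib.EtLimit.nonempty_stalk_Rpush_iso (IsPullback.of_hasPullback N.bc g) q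
  haveI : Subsingleton ((EtCoh.pull (pullback.snd N.bc g) ⋙ EtCoh.HF (pullback N.bc g) q).obj F) := by assumption
  exact (GrothLib.ConstrCpt.isZero_stalk_of_same ξ (Hens2.geomPt Y y R)
    (GrothLib.HLoc18.geomPt_default y R)
    (IsZero.of_iso (AddCommGrpCat.isZero_of_subsingleton _) (θ.app F))).eq_of_src _ _

end GrothLib.FieldExtCd18
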