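import Groth.Agent.Lib.FieldExtCd18.Base
import Groth.Agent.Lib.DimFun18.Primary
import Mathlib.FieldTheory.IntermediateField.Adjoin.Basic

/-!
# Cohomological dimension of field extensions
-/

set_option autoImplicit false
set_option backward.isDefEq.respectTransparency false
set_option backward.isDefEq.respectTransparency.types false
set_option linter.style.haveILetI false
set_option linter.all false

universe u

open CategoryTheory CategoryTheory.Limits CategoryTheory.Abelian AlgebraicGeometry Opposite IsLocalRing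
open GrothLib.DimFun18 GrothLib.EtTrace21 GrothLib.GalCd GrothLib.EtSite GrothLib.EtColim GrothLib.HomGamma
open scoped TensorProduct

noncomputable section

namespace GrothLib.FieldExtCd18

theorem trdeg_adjoin_le_card {k K : Type u} [Field k] [Field K] [Algebra k K] (T : Set K) :
    Algebra.trdeg k (IntermediateField.adjoin k T) ≤ Cardinal.mk T := by
  let E := IntermediateField.adjoin k T
  let s : Set E := Subtype.val ⁻¹' T
  have hs : Subtype.val '' s = T := by
    rw [Set.image_preimage_eq_inter_range, Subtype.range_coe_subtype, Set.inter_eq_left]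
    exact fun x hx => IntermediateField.subset_adjoin k _ hx
  have htop : IntermediateField.adjoin k s = ⊤ := by
    apply IntermediateField.map_injective E.val
    rw [IntermediateField.adjoin_map]
    change IntermediateField.adjoin k (Subtype.val '' s) = _
    rw [hs, ← AlgHom.fieldRange_eq_map, IntermediateField.fieldRange_val]
  have : Algebra.IsAlgebraic (IntermediateField.adjoin k s) E :=
    ⟨fun x => isAlgebraic_algebraMap (⟨x, htop ▸ IntermediateField.mem_top⟩ : IntermediateField.adjoin k s)⟩
  have := IntermediateField.isAlgebraic_adjoin_iff_top.mp this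
  refine (Algebra.IsAlgebraic.trdeg_le_cardinalMk k s).trans ?_
  exact Cardinal.mk_le_of_injective (f := fun x : s => (⟨x.1.1, x.2⟩ : T))
    (fun x y h => Subtype.ext (Subtype.ext (congrArg (fun z : T => z.1) h)))

set_option maxHeartbeats 2000000 in
/-- Vanishing upstairs from the Leray filtration. -/
theorem H_eq_zero_of_Rpush {W X : Scheme.{u}} (f : W ⟶ X) : ∀ (n : ℕ) (M : EtCoh.Ab W),
    (∀ z : EtCoh.H X ((EtCoh.push f).obj M) (n + 1), z = 0) →
    (∀ r b : ℕ, 1 ≤ r → b + r = n + 1 → ∀ z : EtCoh.H X ((EtCoh.Rpush f r).obj M) b, z = 0) →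
      ∀ a : EtCoh.H W M (n + 1), a = 0 := by
  haveI := GrothLib.EtDer.pullFL f
  haveI : PreservesFiniteLimits (EtCoh.push f) :=
    ((EtCoh.pullPushAdj f).rightAdjoint_preservesLimits : PreservesLimitsOfSize.{0, 0} _).preservesFiniteLimits
  haveI : (EtCoh.push f).Additive := Functor.additive_of_preserves_binary_products _
  intro n
  induction n with
  | zero =>
    intro M hM hR a
    let S := injS M
    have hS := injS_shortExact M
    haveI : Injective S.X₂ := inferInstanceAs (Injective (Injective.under M))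
    haveI : Mono ((EtCoh.push f).map S.f) := by
      haveI := hS.mono_f
      exact (EtCoh.push f).map_mono S.f
    let m := (EtCoh.push f).map S.f
    let T := ShortComplex.mk m (cokernel.π m) (cokernel.condition m)
    have hT : T.ShortExact := { exact := T.exact_of_g_is_cokernel (cokernelIsCokernel _) }
    obtain ⟨c, rfl⟩ := Ext.covariant_sequence_exact₁ _ hS a
      (@Ext.eq_zero_of_injective _ _ _ _ _ _ _ (inferInstanceAs (Injective S.X₂)) _) (rfl : 0 + 1 = 0 + 1)
    have hex := hS.exact.map_of_mono_of_preservesKernel (EtCoh.push f) hS.mono_f inferInstance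
    let b : T.X₃ ⟶ (EtCoh.push f).obj S.X₃ := cokernel.desc m ((EtCoh.push f).map S.g)
      (by rw [← Functor.map_comp, S.zero, Functor.map_zero])
    haveI : Mono b := hex.mono_cokernelDesc
    let U := ShortComplex.mk b (cokernel.π b) (cokernel.condition b)
    have hU : U.ShortExact := { exact := U.exact_of_g_is_cokernel (cokernelIsCokernel _) }
    let e : U.X₃ ≅ (EtCoh.Rpush f 1).obj M :=
      (cokernelEpiComp (cokernel.π m) b).symm ≪≫ cokernelIsoOfEq (cokernel.π_desc _ _ _) ≪≫
        (shiftIsoOne hS (EtCoh.push f)).symm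
    let i := EtCore.pullConst f ℤ
    let φ : EtCoh.const X ℤ ⟶ (EtCoh.push f).obj S.X₃ :=
      (EtCoh.pullPushAdj f).homEquiv _ _ (i.hom ≫ Ext.homEquiv₀ c)
    obtain ⟨w, hw⟩ := Ext.covariant_sequence_exact₂ _ hU (Ext.mk₀ φ) ((GrothLib.EtDer.bijective_comp_mk₀ e 0).1
      ((hR 1 0 le_rfl rfl _).trans (hR 1 0 le_rfl rfl _).symm))
    obtain ⟨v, hv⟩ := Ext.covariant_sequence_exact₃ _ hT w rfl (hM _)
    let ψ' : EtCoh.const X ℤ ⟶ (EtCoh.push f).obj S.X₂ := Ext.homEquiv₀ v
    have hψ : ψ' ≫ (EtCoh.push f).map S.g = φ := by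
      rw [← Ext.mk₀_homEquiv₀_apply v, Ext.mk₀_comp_mk₀] at hv
      rw [← hv, Ext.mk₀_comp_mk₀] at hw
      have h' := Ext.homEquiv₀.symm.injective hw
      rw [← h', Category.assoc]
      exact congrArg (ψ' ≫ ·) (cokernel.π_desc _ _ _).symm
    let ψ := ((EtCoh.pullPushAdj f).homEquiv _ _).symm ψ'
    have hc : i.inv ≫ ψ ≫ S.g = Ext.homEquiv₀ c := by
      rw [Iso.inv_comp_eq]
      apply ((EtCoh.pullPushAdj f).homEquiv _ _).injective
      rw [Adjunction.homEquiv_naturality_right, Equiv.apply_symm_apply]
      exact hψ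
    rw [← Ext.mk₀_homEquiv₀_apply c, ← hc, ← Category.assoc, ← Ext.mk₀_comp_mk₀]
    change ((Ext.mk₀ (i.inv ≫ ψ)).comp (Ext.mk₀ S.g) (add_zero 0)).comp hS.extClass _ = 0
    rw [Ext.comp_assoc_of_second_deg_zero, hS.comp_extClass, Ext.comp_zero]
  | succ n ih =>
    intro M hM hR a
    let S := injS M
    have hS := injS_shortExact M
    haveI : Injective S.X₂ := inferInstanceAs (Injective (Injective.under M))
    haveI : Injective ((EtCoh.push f).obj S.X₂) := GrothLib.EtDer.injective_push f S.X₂
    haveI : Mono ((EtCoh.push f).map S.f) := by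
      haveI := hS.mono_f
      exact (EtCoh.push f).map_mono S.f
    let m := (EtCoh.push f).map S.f
    let T := ShortComplex.mk m (cokernel.π m) (cokernel.condition m)
    have hT : T.ShortExact := { exact := T.exact_of_g_is_cokernel (cokernelIsCokernel _) }
    obtain ⟨c, rfl⟩ := Ext.covariant_sequence_exact₁ _ hS a
      (@Ext.eq_zero_of_injective _ _ _ _ _ _ _ (inferInstanceAs (Injective S.X₂)) _) (rfl : n + 1 + 1 = n + 1 + 1)
    have hex := hS.exact.map_of_mono_of_preservesKernel (EtCoh.push f) hS.mono_f inferInstance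
    let b : T.X₃ ⟶ (EtCoh.push f).obj S.X₃ := cokernel.desc m ((EtCoh.push f).map S.g)
      (by rw [← Functor.map_comp, S.zero, Functor.map_zero])
    haveI : Mono b := hex.mono_cokernelDesc
    let U := ShortComplex.mk b (cokernel.π b) (cokernel.condition b)
    have hU : U.ShortExact := { exact := U.exact_of_g_is_cokernel (cokernelIsCokernel _) }
    let e : U.X₃ ≅ (EtCoh.Rpush f 1).obj M :=
      (cokernelEpiComp (cokernel.π m) b).symm ≪≫ cokernelIsoOfEq (cokernel.π_desc _ _ _) ≪≫
        (shiftIsoOne hS (EtCoh.push f)).symm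
    have hT3 : Subsingleton (EtCoh.H X T.X₃ (n + 1)) := by
      refine ⟨fun x y => ?_⟩
      suffices ∀ z : EtCoh.H X T.X₃ (n + 1), z = 0 by rw [this x, this y]
      intro z
      obtain ⟨v, hv⟩ := Ext.covariant_sequence_exact₃ _ hT z rfl (hM _)
      rw [← hv, @Ext.eq_zero_of_injective _ _ _ _ _ _ _ (inferInstanceAs (Injective ((EtCoh.push f).obj S.X₂))) v,
        Ext.zero_comp]
    have hU3 : Subsingleton (EtCoh.H X U.X₃ (n + 1)) := ⟨fun x y => (GrothLib.EtDer.bijective_comp_mk₀ e (n + 1)).1
      ((hR 1 (n + 1) le_rfl rfl _).trans (hR 1 (n + 1) le_rfl rfl _).symm)⟩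
    have hp : Subsingleton (EtCoh.H X U.X₂ (n + 1)) := GrothLib.CdP18.subsingleton_H_X₂ hU (n + 1) hT3 hU3
    rw [ih S.X₃ (fun z => @Subsingleton.elim _ hp z 0) (fun r b' hr hb z => ?_) c, Ext.zero_comp]
    obtain ⟨r', rfl⟩ : ∃ r', r = r' + 1 := ⟨r - 1, by omega⟩
    refine (GrothLib.EtDer.bijective_comp_mk₀ (shiftIso hS (EtCoh.push f) r').symm b').1 ?_
    exact (hR (r' + 2) b' (by omega) (by omega) _).trans (hR (r' + 2) b' (by omega) (by omega) _).symm

set_option maxHeartbeats 2000000 in
/-- One step of transcendence degree one. -/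
theorem killVan_step (k K : Type u) [Field k] [Field K] [Algebra k K] [Algebra.EssFiniteType k K]
    (ht : Algebra.trdeg k K ≤ 1) (p : ℕ) [Fact p.Prime] {d : ℕ} (hd : KillVan (Spec (CommRingCat.of k)) p d) :
    KillVan (Spec (CommRingCat.of K)) p (d + 1) := by
  let X := Spec (CommRingCat.of k)
  let f : Spec (CommRingCat.of K) ⟶ X := Spec.map (CommRingCat.ofHom (algebraMap k K))
  let y : X := default
  let A := (X.presheaf.stalk y : Type u)
  let σ : k →+* A := (StructureSheaf.toStalk k y).hom
  have hσ : Function.Bijective σ := by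
    haveI : Nontrivial A := inferInstance
    refine ⟨σ.injective, fun a => ?_⟩
    obtain ⟨z, hz⟩ := (StructureSheaf.stalkIso k y).surjective a
    haveI : (PrimeSpectrum.asIdeal y).IsPrime := y.2
    obtain ⟨⟨r, s, hs⟩, e⟩ := IsLocalization.surj (PrimeSpectrum.asIdeal y).primeCompl z
    refine ⟨r / s, ?_⟩
    have hs0 : s ≠ 0 := fun h => hs (h ▸ (PrimeSpectrum.asIdeal y).zero_mem)
    have e' := congrArg (StructureSheaf.stalkIso k y) e
    rw [map_mul, AlgEquiv.commutes, AlgEquiv.commutes, hz] at e'
    have h1 : σ s * σ s⁻¹ = 1 := by rw [← map_mul, mul_inv_cancel₀ hs0, map_one]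
    rw [div_eq_mul_inv, map_mul, show σ r = a * σ s from e'.symm, mul_assoc, h1, mul_one]
  have hA : IsField A := MulEquiv.isField (Field.toIsField k) (RingEquiv.ofBijective σ hσ).symm.toMulEquiv
  let φ : A →+* K := (algebraMap k K).comp (RingEquiv.ofBijective σ hσ).symm.toRingHom
  letI := φ.toAlgebra
  letI : Field A := hA.toField
  letI : Algebra k A := σ.toAlgebra
  haveI : IsScalarTower k A K := IsScalarTower.of_algebraMap_eq fun r =>
    (congrArg (algebraMap k K) ((RingEquiv.ofBijective σ hσ).symm_apply_apply r)).symm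
  haveI : Algebra.IsAlgebraic k A := ⟨fun a => by
    obtain ⟨z, rfl⟩ := hσ.2 a
    exact isAlgebraic_algebraMap z⟩
  have htA : Algebra.trdeg A K ≤ 1 := by
    rw [← trdeg_add_eq k A (A := K), trdeg_eq_zero (R := k) (A := A), zero_add] at ht
    exact ht
  haveI : Algebra.EssFiniteType A K := Algebra.EssFiniteType.of_comp k A K
  have hf : Spec.map (CommRingCat.ofHom φ) ≫ X.fromSpecStalk y = f := by
    rw [Spec.fromSpecStalk_eq, ← Spec.map_comp]
    refine congrArg Spec.map (CommRingCat.hom_ext (RingHom.ext fun r => ?_))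
    exact congrArg (algebraMap k K) ((RingEquiv.ofBijective σ hσ).symm_apply_apply r)
  -- the strict henselization
  let R := GrothLib.Hensel.StrictHens A
  have hR : IsField R := GrothLib.HLoc18.strictHens_field A hA
  letI : Field R := hR.toField
  haveI : IsSepClosed (ResidueField R) :=
      (inferInstance : _root_.Hensel.IsStrictHenselization A R).isSepClosure.sep_closed
  haveI : IsSepClosed R := by
    exact GrothLib.GalCd.isSepClosed_of_ringEquiv (A := ResidueField R)
      (RingEquiv.ofBijective (residue R) ⟨(residue R).injective, residue_surjective⟩).symm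
  haveI : IsNoetherianRing R := inferInstance
  let T := R ⊗[A] K
  haveI : IsNoetherianRing T := Algebra.EssFiniteType.isNoetherianRing R T
  have hst := GrothLib.Hensel.IsStrictHenselization.etaleStages (A := A) (S := R)
  have hflat : GrothLib.Hensel.AbsFlat T := hst.absFlat_tensor (GrothLib.Hensel.absFlat_of_field K)
  haveI : Algebra.IsAlgebraic A R := ⟨fun r => by
    obtain ⟨N, _, _, _, ψ, hψ⟩ := hst {r}
    obtain ⟨n, rfl⟩ := hψ r (Finset.mem_singleton_self r)
    haveI : Module.Finite A N := Algebra.FormallyUnramified.finite_of_free A N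
    exact ((IsIntegral.of_finite A n).map ψ).isAlgebraic⟩
  haveI : Algebra.IsIntegral A R := Algebra.IsAlgebraic.isIntegral
  haveI : Algebra.IsIntegral K (K ⊗[A] R) := inferInstance
  let P₀ := Spec (CommRingCat.of T)
  have hmin : ∀ Q : PrimeSpectrum T, Q.asIdeal ∈ minimalPrimes T := fun Q =>
    ⟨⟨Q.2, bot_le⟩, fun Q' hQ' hle => by
      haveI := hQ'.1
      exact (hflat.eq_of_le hle).ge⟩
  haveI : Finite (PrimeSpectrum T) := by
    haveI : Finite ↥(minimalPrimes T) := (minimalPrimes.finite_of_isNoetherianRing T).to_subtype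
    exact Finite.of_injective (fun Q => (⟨Q.asIdeal, hmin Q⟩ : ↥(minimalPrimes T)))
      fun a b h => PrimeSpectrum.ext (congrArg Subtype.val h)
  haveI : Finite P₀ := inferInstanceAs (Finite (PrimeSpectrum T))
  haveI : T1Space P₀ := ⟨fun Q => by
    haveI := Q.isPrime
    exact (PrimeSpectrum.isClosed_singleton_iff_isMaximal Q).2 (hflat.isMaximal Q.asIdeal)⟩
  have hres : ∀ Q : P₀, KillVan (Spec (P₀.residueField Q)) p 1 := by
    intro Q
    haveI := hflat.isMaximal (PrimeSpectrum.asIdeal Q)
    let L := T ⧸ PrimeSpectrum.asIdeal Q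
    letI : Field L := Ideal.Quotient.field _
    letI : Algebra K L := ((Ideal.Quotient.mk (PrimeSpectrum.asIdeal Q)).comp
      (Algebra.TensorProduct.includeRight : K →ₐ[A] T).toRingHom).toAlgebra
    haveI : IsScalarTower A K L := IsScalarTower.of_algebraMap_eq fun a => by
      change Ideal.Quotient.mk _ (algebraMap A T a) = Ideal.Quotient.mk _ _
      exact congrArg _ ((Algebra.TensorProduct.includeRight : K →ₐ[A] T).commutes a).symm
    haveI : Algebra.IsIntegral K L := ⟨fun z => by
      obtain ⟨t, rfl⟩ := Ideal.Quotient.mk_surjective z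
      induction t using TensorProduct.induction_on with
      | zero => rw [map_zero]; exact isIntegral_zero
      | add s t hs ht => rw [map_add]; exact hs.add ht
      | tmul r z =>
        rw [show r ⊗ₜ[A] z = (r ⊗ₜ[A] (1 : K)) * ((1 : R) ⊗ₜ[A] z) by
          rw [Algebra.TensorProduct.tmul_mul_tmul, mul_one, one_mul], map_mul]
        refine IsIntegral.mul (IsIntegral.tower_top (R := A) ?_) (isIntegral_algebraMap (R := K) (x := z))
        exact (Algebra.IsIntegral.isIntegral r).map ((Ideal.Quotient.mkₐ A (PrimeSpectrum.asIdeal Q)).comp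
          (Algebra.TensorProduct.includeLeft : R →ₐ[A] T))⟩
    haveI : Algebra.IsAlgebraic K L := Algebra.IsIntegral.isAlgebraic
    have h1 : Algebra.trdeg A L ≤ 1 := by
      rw [← trdeg_add_eq A K (A := L), trdeg_eq_zero (R := K) (A := L), add_zero]
      exact htA
    have h2 : Algebra.trdeg R L ≤ 1 := by
      rw [← trdeg_add_eq A R (A := L), trdeg_eq_zero (R := A) (A := R), zero_add] at h1
      exact h1
    let e₂ : L ≃+* (PrimeSpectrum.asIdeal Q).ResidueField :=
      RingEquiv.ofBijective _ (Ideal.bijective_algebraMap_quotient_residueField (PrimeSpectrum.asIdeal Q))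
    exact killVan_of_iso (Spec.map ((Scheme.Spec.residueFieldIso (CommRingCat.of T) Q).hom ≫
      e₂.symm.toCommRingCatIso.hom)) (killVan_one R L h2 p)
  -- the stalks
  have hpo := CommRingCat.isPushout_tensorProduct A R K
  have hpb : IsPullback (Spec.map (CommRingCat.ofHom (Algebra.TensorProduct.includeLeftRingHom : R →+* T)))
      (Spec.map (CommRingCat.ofHom (Algebra.TensorProduct.includeRight : K →ₐ[A] T).toRingHom))
      (Hens2.specOf X y R) f := by
    rw [← hf]
    exact GrothLib.HLoc18.isPullback_comp_mono (isPullback_SpecMap_of_isPushout _ _ _ _ hpo) (X.fromSpecStalk y)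
  obtain ⟨P, e, he⟩ := GrothLib.EtLimit.exists_proNbhd_hens X y R
  let pr := Spec.map (CommRingCat.ofHom (Algebra.TensorProduct.includeRight : K →ₐ[A] T).toRingHom)
  have hP : IsPullback (Spec.map (CommRingCat.ofHom (Algebra.TensorProduct.includeLeftRingHom : R →+* T)) ≫ e.hom) pr
      P.bc f :=
    hpb.of_iso (Iso.refl _) e (Iso.refl _) (Iso.refl _) (by simp) (by simp [pr]) (by simp [he]) (by simp)
  haveI := GrothLib.EtSite.pull_preservesFiniteLimits pr
  haveI : (EtCoh.pull pr).Additive := (EtCoh.pullPushAdj _).left_adjoint_additive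
  haveI : PreservesFiniteLimits (EtCoh.push f) :=
    ((EtCoh.pullPushAdj f).rightAdjoint_preservesLimits : PreservesLimitsOfSize.{0, 0} _).preservesFiniteLimits
  haveI : (EtCoh.push f).Additive := Functor.additive_of_preserves_binary_products _
  intro G hG q hq
  have hzero : ∀ r, 1 < r → IsZero ((EtCoh.Rpush f r).obj G) := fun r hr =>
    (IsZero.iff_id_eq_zero _).2 (GrothLib.ExtZero.zero_of_stalks _ fun Ω _ _ ξ => by
      obtain ⟨θ⟩ := GrothLib.EtLimit.nonempty_stalk_Rpush_iso hP r
      haveI := subsingleton_H_discrete (X := P₀) hres ((EtCoh.pull pr).obj G) (killed_map (EtCoh.pull pr) hG) r hr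
      haveI : Subsingleton ((EtCoh.pull pr ⋙ EtCoh.HF (Spec (CommRingCat.of T)) r).obj G) := by assumption
      haveI : Subsingleton X := inferInstanceAs (Subsingleton (PrimeSpectrum k))
      exact (GrothLib.ConstrCpt.isZero_stalk_of_same ξ (Hens2.geomPt X y R) (Subsingleton.elim _ _)
        (IsZero.of_iso (AddCommGrpCat.isZero_of_subsingleton _) (θ.app G))).eq_of_src _ _)
  suffices h : ∀ x : EtCoh.H (Spec (CommRingCat.of K)) G q, x = 0 from ⟨fun a b => (h a).trans (h b).symm⟩
  obtain ⟨n, rfl⟩ : ∃ n, q = n + 1 := ⟨q - 1, by omega⟩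
  refine H_eq_zero_of_Rpush f n G (fun z => ?_) (fun r b hr hb z => ?_)
  · haveI := hd _ (killed_map (EtCoh.push f) hG) (n + 1) (by omega)
    exact Subsingleton.elim _ _
  · rcases (show r = 1 ∨ 1 < r by omega) with rfl | hr'
    · haveI : (EtCoh.Rpush f 1).Additive := inferInstanceAs (((EtCoh.push f).rightDerived 1).Additive)
      haveI := hd _ (killed_map (EtCoh.Rpush f 1) hG) b (by omega)
      exact Subsingleton.elim _ _
    · haveI := GrothLib.CdP18.subsingleton_H_of_isZero (hzero r hr') b
      exact Subsingleton.elim _ _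

set_option maxHeartbeats 2000000 in
/-- Extensions of transcendence degree at most `n`. -/
theorem killVan_trdeg (p : ℕ) [Fact p.Prime] : ∀ (n : ℕ) (K L : Type u) [Field K] [Field L] [Algebra K L],
    Algebra.trdeg K L ≤ n → ∀ d : ℕ, KillVan (Spec (CommRingCat.of K)) p d →
      KillVan (Spec (CommRingCat.of L)) p (d + n) := by
  intro n
  induction n with
  | zero =>
    intro K L _ _ _ ht d hd
    haveI : Algebra.IsAlgebraic K L := trdeg_eq_zero_iff.1 (nonpos_iff_eq_zero.1 (by simpa using ht))
    exact killVan_algebraic hd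
  | succ n ih =>
    intro K L _ _ _ ht d hd
    by_cases halg : Algebra.IsAlgebraic K L
    · exact fun G hG q hq => killVan_algebraic hd G hG q (by omega)
    obtain ⟨x, hx⟩ : ∃ x : L, Transcendental K x := by
      by_contra h
      push Not at h
      exact halg ⟨fun x => not_not.1 (h x)⟩
    let E : IntermediateField K L := IntermediateField.adjoin K {x}
    haveI : Algebra.EssFiniteType K E :=
      IntermediateField.essFiniteType_iff.2 (IntermediateField.fg_def.2 ⟨{x}, Set.finite_singleton x, rfl⟩)
    have hE1 : Algebra.trdeg K E = 1 := by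
      refine le_antisymm (by simpa using trdeg_adjoin_le_card (k := K) ({x} : Set L)) ?_
      refine Cardinal.one_le_iff_ne_zero.2 (trdeg_ne_zero_iff.2 ⟨⟨⟨x, IntermediateField.mem_adjoin_simple_self K x⟩, ?_⟩⟩)
      intro h
      exact hx (h.algHom E.val)
    have hEL : Algebra.trdeg E L ≤ n := by
      rw [← trdeg_add_eq K E (A := L), hE1] at ht
      push_cast at ht
      exact (Cardinal.add_le_add_iff_of_lt_aleph0 Cardinal.one_lt_aleph0).1 (by rw [add_comm]; exact ht)
    have := ih E L hEL (d + 1) (killVan_step K E hE1.le p hd)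
    exact fun G hG q hq => this G hG q (by omega)

/-- Vanishing for every prime gives vanishing for torsion. -/
theorem cohDimLE_of_killVan (L : Type u) [Field L] (d : ℕ)
    (h : ∀ p : ℕ, p.Prime → KillVan (Spec (CommRingCat.of L)) p d) : EtCoh.CohDimLE (Spec (CommRingCat.of L)) d := by
  intro F hF q hq
  suffices hz : ∀ x : EtCoh.H (Spec (CommRingCat.of L)) F q, x = 0 from ⟨fun a b => (hz a).trans (hz b).symm⟩
  have key : ∀ N : ℕ, N ≠ 0 → ∀ G : EtCoh.Ab (Spec (CommRingCat.of L)), N • 𝟙 G = 0 →
      Subsingleton (EtCoh.H (Spec (CommRingCat.of L)) G q) := by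
    intro N
    induction N using Nat.strong_induction_on with
    | _ N ih =>
      intro hN G hG
      rcases eq_or_ne N 1 with rfl | hN1
      · refine GrothLib.CdP18.subsingleton_H_of_isZero ((IsZero.iff_id_eq_zero G).2 ?_) q
        rwa [one_smul] at hG
      obtain ⟨p, hp, M, rfl⟩ := Nat.exists_prime_and_dvd hN1
      haveI : Fact p.Prime := ⟨hp⟩
      let T := ShortComplex.mk (kernel.ι (p • 𝟙 G)) (cokernel.π (kernel.ι (p • 𝟙 G))) (cokernel.condition _)
      have hT : T.ShortExact := { exact := T.exact_of_g_is_cokernel (cokernelIsCokernel _) }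
      let b : T.X₃ ⟶ G := Abelian.factorThruCoimage (p • 𝟙 G)
      have hb : T.g ≫ b = p • 𝟙 G := Abelian.coimage.fac _
      haveI : Mono b := inferInstanceAs (Mono (Abelian.factorThruCoimage _))
      have hQ : M • 𝟙 T.X₃ = 0 := by
        haveI : Epi T.g := hT.epi_g
        rw [← cancel_mono b, ← cancel_epi T.g, Preadditive.nsmul_comp, Category.id_comp, Preadditive.comp_nsmul, hb,
          zero_comp, comp_zero, ← mul_nsmul', mul_comm, hG]
      have hM : M ≠ 0 := fun h => hN (by rw [h, mul_zero])
      refine GrothLib.CdP18.subsingleton_H_X₂ hT q (h p hp _ ?_ q hq) (ih M ?_ hM _ hQ)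
      · rw [← cancel_mono (kernel.ι (p • 𝟙 G)), Preadditive.nsmul_comp, Category.id_comp, zero_comp]
        have := kernel.condition (p • 𝟙 G)
        rwa [Preadditive.comp_nsmul, Category.comp_id] at this
      · exact lt_mul_left (Nat.pos_of_ne_zero hM) hp.one_lt
  intro x
  obtain ⟨G, i, z, N, hN, hG, rfl⟩ := GrothLib.GalCd.exists_killed_preimage hF q x
  rw [@Subsingleton.elim _ (key N hN G hG) z 0, Ext.zero_comp]

end GrothLib.FieldExtCd18
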