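import Groth.Agent.Lib.GalCd.SylowRed
import Groth.Agent.Lib.DimFun18.Primary
import Groth.Agent.Lib.FieldExtCd18.Base
import Groth.Agent.Lib.Constructible.Chain
import Groth.Agent.Lib.EtDer.AcyclicComp
import Groth.Prelude.Def_EtDepth

/-!
# The top degree of cohomology of a field
-/

set_option autoImplicit false
set_option backward.isDefEq.respectTransparency false
set_option backward.isDefEq.respectTransparency.types false
set_option linter.style.haveILetI false
set_option linter.all false

universe u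

open CategoryTheory CategoryTheory.Limits AlgebraicGeometry Opposite
open GrothLib.EtSite GrothLib.EtTrace21 GrothLib.GalCd

noncomputable section

namespace GrothLib.FieldExtCd18

set_option maxHeartbeats 2000000 in
/-- For a sheaf with finite stalk, a finite separable extension of degree prime to `p` over which it is
split by a `p`-extension, detecting classes killed by `p`. -/
theorem exists_prime_to_ext (k : Type u) [Field k] (p : ℕ) [Fact p.Prime]
    (G : EtCoh.Ab (Spec (CommRingCat.of k))) (hfin : Finite ((EtCoh.stalk (algPt k)).obj G)) :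
    ∃ (K : Type u) (_ : Field K) (_ : Algebra k K) (_ : FiniteDimensional k K) (_ : Algebra.IsSeparable k K)
      (_ : Etale (specMap k K)) (_ : EtShriek.JCont (specMap k K))
      (L : Type u) (_ : Field L) (_ : Algebra K L) (_ : FiniteDimensional K L) (_ : IsGalois K L)
      (ξK : Spec (CommRingCat.of (AlgebraicClosure k)) ⟶ Spec (CommRingCat.of K)),
      IsPGroup p (L ≃ₐ[K] L) ∧ Split ξK L ((EtShriek.restrAlong (specMap k K)).obj G) ∧
      Finite ((EtCoh.stalk ξK).obj ((EtShriek.restrAlong (specMap k K)).obj G)) ∧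
      ∀ (r : ℕ) (H : EtCoh.Ab (Spec (CommRingCat.of k))), p • 𝟙 H = 0 →
        Subsingleton (EtCoh.H (Spec (CommRingCat.of K)) ((EtShriek.restrAlong (specMap k K)).obj H) r) →
          ∀ x : EtCoh.H (Spec (CommRingCat.of k)) H r, x = 0 := by
  obtain ⟨L, _, _, _, _, hsp⟩ := exists_split (algPt k) (algPt_alg k) hfin
  obtain ⟨P⟩ : Nonempty (Sylow p (L ≃ₐ[k] L)) := inferInstance
  let K : IntermediateField k L := IntermediateField.fixedField (P : Subgroup (L ≃ₐ[k] L))
  have hdeg : ¬ p ∣ Module.finrank k K := by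
    have h1 : Module.finrank K L = Nat.card (P : Subgroup (L ≃ₐ[k] L)) := IntermediateField.finrank_fixedField_eq_card _
    have h2 := Module.finrank_mul_finrank k K L
    rw [h1, ← IsGalois.card_aut_eq_finrank k L, mul_comm, ← Subgroup.card_mul_index (P : Subgroup (L ≃ₐ[k] L))] at h2
    rw [Nat.eq_of_mul_eq_mul_left Nat.card_pos h2]
    exact P.not_dvd_index
  have hPg : IsPGroup p (L ≃ₐ[K] L) := by
    let r : (L ≃ₐ[K] L) →* (P : Subgroup (L ≃ₐ[k] L)) :=
      { toFun := fun σ => ⟨σ.restrictScalars k, by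
          rw [← IntermediateField.fixingSubgroup_fixedField (P : Subgroup (L ≃ₐ[k] L))]
          exact (IntermediateField.mem_fixingSubgroup_iff _ _).2 fun x hx => σ.commutes ⟨x, hx⟩⟩
        map_one' := rfl
        map_mul' := fun _ _ => rfl }
    exact P.isPGroup'.of_injective r fun a b h => AlgEquiv.ext fun x =>
      congr($(congrArg (fun q : (P : Subgroup (L ≃ₐ[k] L)) => (q : L ≃ₐ[k] L)) h) x)
  let f := specMap k K
  haveI := isFinite_specMap k K
  haveI := etale_specMap k K
  haveI := GrothLib.Constructible.jcont f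
  haveI := GrothLib.EtDer.pullFL f
  let ψ : L →ₐ[k] AlgebraicClosure k := IsAlgClosed.lift
  let ξK : Spec (CommRingCat.of (AlgebraicClosure k)) ⟶ Spec (CommRingCat.of K) :=
    Spec.map (CommRingCat.ofHom (ψ.toRingHom.comp (algebraMap K L)))
  have hξ : ξK ≫ f = algPt k := by
    change Spec.map _ ≫ Spec.map _ = Spec.map _
    rw [← Spec.map_comp, ← CommRingCat.ofHom_comp]
    exact congrArg (fun g => Spec.map (CommRingCat.ofHom g)) (RingHom.ext fun r => ψ.commutes r)
  obtain ⟨hsp₁, hfin₁⟩ := split_restr (algPt k) ξK hξ ψ.toRingHom rfl hsp hfin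
  refine ⟨K, inferInstance, inferInstance, inferInstance, inferInstance, inferInstance, inferInstance, L,
    inferInstance, inferInstance, inferInstance, inferInstance, ξK, hPg, hsp₁, hfin₁, fun r H hH hsub x => ?_⟩
  let H₁ := (EtShriek.restrAlong f).obj H
  let y : EtCoh.H (Spec (CommRingCat.of k)) ((EtCoh.push f).obj H₁) r :=
    CategoryTheory.Abelian.Ext.comp x (CategoryTheory.Abelian.Ext.mk₀ (unitPush f H)) (add_zero r)
  have hy : y = 0 := (Groth.Agent.S14451.result f H₁
    (fun q hq => GrothLib.EtSite.isZero_Rpush_of_integral f H₁ q hq) r).1 (hsub.elim _ _)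
  have hd : Module.finrank k K • x = 0 := by
    rw [← comp_nsmul_id x (Module.finrank k K), ← unit_tr f H (Module.finrank k K)
      (fun Ω _ _ η => natCard_pts k K Ω η), ← CategoryTheory.Abelian.Ext.mk₀_comp_mk₀,
      ← CategoryTheory.Abelian.Ext.comp_assoc_of_third_deg_zero]
    change CategoryTheory.Abelian.Ext.comp y _ _ = 0
    rw [hy, CategoryTheory.Abelian.Ext.zero_comp]
  refine AddMonoid.addOrderOf_eq_one_iff.1 (Nat.dvd_one.1 ?_)
  rw [← ((Fact.out : p.Prime).coprime_iff_not_dvd.2 hdeg).gcd_eq_one]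
  exact Nat.dvd_gcd (addOrderOf_dvd_of_nsmul_eq_zero (nsmul_H hH x)) (addOrderOf_dvd_of_nsmul_eq_zero hd)

theorem killed_restr {k K : Type u} [Field k] [Field K] [Algebra k K] [Etale (specMap k K)]
    [EtShriek.JCont (specMap k K)] {p : ℕ} {H : EtCoh.Ab (Spec (CommRingCat.of k))} (h : p • 𝟙 H = 0) :
    p • 𝟙 ((EtShriek.restrAlong (specMap k K)).obj H) = 0 := by
  haveI := GrothLib.EtDer.pullFL (specMap k K)
  haveI : PreservesFiniteLimits (EtShriek.restrAlong (specMap k K)) :=
    preservesFiniteLimits_of_natIso (GrothLib.ExtZero.restrIsoPull (specMap k K)).symm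
  haveI : (EtShriek.restrAlong (specMap k K)).Additive := Functor.additive_of_preserves_binary_products _
  rw [← CategoryTheory.Functor.map_id, ← Functor.map_nsmul, h, Functor.map_zero]

set_option maxHeartbeats 1000000 in
/-- Vanishing in degree `r` for constant coefficients over all finite separable extensions. -/
theorem H_eq_zero_of_const (k : Type u) [Field k] (p : ℕ) [Fact p.Prime] (r : ℕ)
    (hc : ∀ (K : Type u) [Field K] [Algebra k K] [FiniteDimensional k K] [Algebra.IsSeparable k K],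
      Subsingleton (EtCoh.H (Spec (CommRingCat.of K)) (EtCoh.const (Spec (CommRingCat.of K)) (ZMod p)) r))
    (G : EtCoh.Ab (Spec (CommRingCat.of k))) (hG : p • 𝟙 G = 0)
    (x : EtCoh.H (Spec (CommRingCat.of k)) G r) : x = 0 := by
  obtain ⟨G', i, x', hG', hfin, rfl⟩ := exists_finite_preimage (algPt k) p r G hG x
  suffices hx' : x' = 0 by rw [hx', CategoryTheory.Abelian.Ext.zero_comp]
  obtain ⟨K, _, _, _, _, _, _, L, _, _, _, _, ξK, hPg, hsp, hfin₁, hdet⟩ := exists_prime_to_ext k p G' hfin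
  exact hdet r G' hG' (subsingleton_H_of_split ξK p hPg r (hc K) _ _ rfl (killed_restr hG') hfin₁ hsp) x'

/-- A nonzero sheaf killed by `p` and split by a `p`-extension maps onto the constant sheaf. -/
theorem exists_epi_const {k L Ω : Type u} [Field k] [Field L] [Field Ω] [IsAlgClosed Ω] [Algebra k L]
    [FiniteDimensional k L] [IsGalois k L] (ξ : Spec (CommRingCat.of Ω) ⟶ Spec (CommRingCat.of k))
    (p : ℕ) [Fact p.Prime] (hL : IsPGroup p (L ≃ₐ[k] L)) :
    ∀ (N : ℕ) (G : EtCoh.Ab (Spec (CommRingCat.of k))), Nat.card ((EtCoh.stalk ξ).obj G) = N →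
      p • 𝟙 G = 0 → Finite ((EtCoh.stalk ξ).obj G) → Split ξ L G → Nontrivial ((EtCoh.stalk ξ).obj G) →
      ∃ π : G ⟶ EtCoh.const (Spec (CommRingCat.of k)) (ZMod p), Epi π := by
  intro N
  induction N using Nat.strong_induction_on with
  | _ N ih =>
    intro G hN hG hfin hsp hne
    obtain ⟨ι, hι, hι0⟩ := exists_mono_const ξ p hL hG hfin hsp hne
    haveI := hι
    let q := cokernel.π ι
    rcases subsingleton_or_nontrivial ((EtCoh.stalk ξ).obj (cokernel ι)) with hss | hne'
    · haveI : Epi ι := Preadditive.epi_of_isZero_cokernel ι ((IsZero.iff_id_eq_zero _).2 (by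
        haveI : Mono (0 : cokernel ι ⟶ cokernel ι) := mono_of_stalk ξ _ fun a b _ => Subsingleton.elim a b
        exact (cancel_mono (0 : cokernel ι ⟶ cokernel ι)).1 (comp_zero.trans comp_zero.symm)))
      haveI : IsIso ι := isIso_of_mono_of_epi ι
      exact ⟨inv ι, inferInstance⟩
    · have hQ : p • 𝟙 (cokernel ι) = 0 := GrothLib.DimFun18.killed_quot q hG
      have hsurj := surjective_stalk_of_epi ξ q
      haveI hfinQ : Finite ((EtCoh.stalk ξ).obj (cokernel ι)) := Finite.of_surjective _ hsurj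
      have hlt : Nat.card ((EtCoh.stalk ξ).obj (cokernel ι)) < N := by
        rw [← hN]
        refine lt_of_le_of_ne (Nat.card_le_card_of_surjective _ hsurj) fun heq => hι0 ?_
        have hinj : Function.Injective ((EtCoh.stalk ξ).map q) :=
          (hsurj.bijective_of_nat_card_le heq.ge).1
        haveI : Mono q := mono_of_stalk ξ q hinj
        exact (cancel_mono q).1 (by rw [cokernel.condition, zero_comp])
      obtain ⟨π, hπ⟩ := ih _ hlt (cokernel ι) rfl hQ hfinQ (split_of_epi ξ q hsp) hne'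
      exact ⟨q ≫ π, inferInstance⟩

variable (p : ℕ) [Fact p.Prime]

set_option maxHeartbeats 2000000 in
/-- Constant coefficients in top degree die when a nonzero sheaf's do. -/
theorem H_const_eq_zero_of_sheaf (k : Type u) [Field k] (n : ℕ)
    (hcd : DimFun18.KillVan (Spec (CommRingCat.of k)) p n)
    (G : EtCoh.Ab (Spec (CommRingCat.of k))) (hG : p • 𝟙 G = 0)
    (hfin : Finite ((EtCoh.stalk (algPt k)).obj G)) (hne : Nontrivial ((EtCoh.stalk (algPt k)).obj G))
    (hvan : ∀ (K : Type u) [Field K] [Algebra k K] [FiniteDimensional k K] [Algebra.IsSeparable k K],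
      Subsingleton (EtCoh.H (Spec (CommRingCat.of K)) ((EtCoh.pull (specMap k K)).obj G) n)) :
    Subsingleton (EtCoh.H (Spec (CommRingCat.of k)) (EtCoh.const (Spec (CommRingCat.of k)) (ZMod p)) n) := by
  obtain ⟨K, _, _, _, _, _, _, L, _, _, _, _, ξK, hPg, hsp, hfin₁, hdet⟩ := exists_prime_to_ext k p G hfin
  let f := specMap k K
  haveI := GrothLib.EtDer.pullFL f
  let G₁ := (EtShriek.restrAlong f).obj G
  have hne₁ : Nontrivial ((EtCoh.stalk ξK).obj G₁) := by
    by_contra hcon
    rw [not_nontrivial_iff_subsingleton] at hcon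
    haveI : Subsingleton ((EtShriek.restrAlong f ⋙ EtCoh.stalk ξK).obj G) := hcon
    have h0 : IsZero ((EtCoh.stalk (ξK ≫ f)).obj G) :=
      IsZero.of_iso (AddCommGrpCat.isZero_of_subsingleton _) ((GrothLib.ExtZero.restrStalkIso f ξK).app G).symm
    have h1 : IsZero ((EtCoh.stalk (algPt k)).obj G) := GrothLib.ConstrCpt.isZero_stalk_of_same (algPt k) (ξK ≫ f)
      (Subsingleton.elim (α := PrimeSpectrum k) _ _) h0
    haveI := AddCommGrpCat.subsingleton_of_isZero h1
    exact false_of_nontrivial_of_subsingleton ((EtCoh.stalk (algPt k)).obj G)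
  obtain ⟨π, hπ⟩ := exists_epi_const ξK p hPg _ G₁ rfl (killed_restr hG) hfin₁ hsp hne₁
  haveI := hπ
  let T := ShortComplex.mk (kernel.ι π) π (kernel.condition π)
  have hT : T.ShortExact := { exact := T.exact_of_f_is_kernel (kernelIsKernel π) }
  haveI : Algebra.IsAlgebraic k K := Algebra.IsAlgebraic.of_finite k K
  have hcdK : DimFun18.KillVan (Spec (CommRingCat.of K)) p n := killVan_algebraic hcd
  have hK : Subsingleton (EtCoh.H (Spec (CommRingCat.of K)) (EtCoh.const (Spec (CommRingCat.of K)) (ZMod p)) n) := by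
    refine ⟨fun a b => ?_⟩
    suffices ∀ z : EtCoh.H (Spec (CommRingCat.of K)) T.X₃ n, z = 0 from (this a).trans (this b).symm
    intro z
    haveI : Subsingleton (EtCoh.H (Spec (CommRingCat.of K)) T.X₁ (n + 1)) :=
      hcdK _ (DimFun18.killed_sub (kernel.ι π) (killed_restr hG)) (n + 1) (Nat.lt_succ_self n)
    obtain ⟨w, hw⟩ := CategoryTheory.Abelian.Ext.covariant_sequence_exact₃ _ hT z rfl (Subsingleton.elim _ _)
    haveI : Subsingleton (EtCoh.H (Spec (CommRingCat.of K)) G₁ n) :=
      GrothLib.CdP18.subsingleton_H_of_iso ((GrothLib.ExtZero.restrIsoPull f).app G).symm n (hvan K)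
    rw [← hw, Subsingleton.elim (α := EtCoh.H (Spec (CommRingCat.of K)) G₁ n) w 0, CategoryTheory.Abelian.Ext.zero_comp]
  have hC : p • 𝟙 (EtCoh.const (Spec (CommRingCat.of k)) (ZMod p)) = 0 := GrothLib.GalCd.killed_const p
  have h' := hdet n _ hC (GrothLib.CdP18.subsingleton_H_of_iso
    ((GrothLib.ExtZero.restrIsoPull f).app _ ≪≫ EtCore.pullConst f (ZMod p)).symm n hK)
  exact ⟨fun a b => (h' a).trans (h' b).symm⟩

set_option maxHeartbeats 2000000 in
theorem primary_of_isLTorsion {X : Scheme.{u}} {p : ℕ} [hp : Fact p.Prime] {F : EtCoh.Ab X}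
    (hF : EtAcyc.IsLTorsion {p} F) : EtDepth.IsLTorsion p F := fun U s x => by
  obtain ⟨V, g, m, hv, ⟨hm, hpr⟩, hms⟩ := hF U s x
  refine ⟨V, g, hv, m.primeFactorsList.length, ?_⟩
  rwa [← Nat.eq_prime_pow_of_unique_prime_dvd hm.ne' fun {d} hd hdm => hpr d hd hdm]

theorem isLTorsion_of_primary {X : Scheme.{u}} {p : ℕ} [hp : Fact p.Prime] {F : EtCoh.Ab X}
    (hF : EtDepth.IsLTorsion p F) : EtAcyc.IsLTorsion {p} F := fun U s x => by
  obtain ⟨V, g, hv, k, hk⟩ := hF U s x
  exact ⟨V, g, p ^ k, hv, ⟨pow_pos hp.out.pos k,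
    fun q hq hd => (Nat.prime_dvd_prime_iff_eq hq hp.out).1 (hq.dvd_of_dvd_pow hd)⟩, hk⟩

/-- The top degree is seen by every nonzero torsion sheaf with finite stalk. -/
theorem exists_top_nonzero (K : Type u) [Field K] (F : EtCoh.Ab (Spec (CommRingCat.of K)))
    (hfinF : ∀ (Ω : Type u) [Field Ω] [IsAlgClosed Ω] (ξ : Spec (CommRingCat.of Ω) ⟶ Spec (CommRingCat.of K)),
      Finite ((EtCoh.stalk ξ).obj F)) (hF : EtDepth.IsLTorsion p F) (hF0 : ¬ IsZero F) (n : ℕ)
    (hcd : EtDepth.CohDimLLE (Spec (CommRingCat.of K)) p n)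
    (hvan : ∀ (L : Type u) [Field L] [Algebra K L] [FiniteDimensional K L] [Algebra.IsSeparable K L],
      Subsingleton (EtCoh.H (Spec (CommRingCat.of L)) ((EtCoh.pull (specMap K L)).obj F) n)) :
    ∀ (G : EtCoh.Ab (Spec (CommRingCat.of K))), p • 𝟙 G = 0 → ∀ x : EtCoh.H (Spec (CommRingCat.of K)) G n, x = 0 := by
  let ξ := algPt K
  have hfin := hfinF _ ξ
  haveI := GrothLib.EtSite.additive_stalk ξ
  haveI := GrothLib.EtSite.preservesFiniteColimits_stalk ξ
  let M : Type (u + 1) := ((EtCoh.stalk ξ).obj F : AddCommGrpCat.{u + 1})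
  have hMne : Nontrivial ((EtCoh.stalk ξ).obj F) := by
    by_contra hcon
    rw [not_nontrivial_iff_subsingleton] at hcon
    refine hF0 ((IsZero.iff_id_eq_zero _).2 ?_)
    haveI : Mono (0 : F ⟶ F) := mono_of_stalk ξ _ fun a b _ => Subsingleton.elim a b
    exact (cancel_mono (0 : F ⟶ F)).1 (comp_zero.trans comp_zero.symm)
  let a : F ⟶ F := p • 𝟙 F
  let G₀ := cokernel a
  have hG₀ : p • 𝟙 G₀ = 0 := by
    rw [← cancel_epi (cokernel.π a), Preadditive.comp_nsmul, Category.comp_id, comp_zero]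
    have := cokernel.condition a
    rwa [Preadditive.nsmul_comp, Category.id_comp] at this
  have hsurj := surjective_stalk_of_epi ξ (cokernel.π a)
  have hfin₀ : Finite ((EtCoh.stalk ξ).obj G₀) := Finite.of_surjective _ hsurj
  have hne₀ : Nontrivial ((EtCoh.stalk ξ).obj G₀) := by
    by_contra hcon
    rw [not_nontrivial_iff_subsingleton] at hcon
    haveI : Epi a := Preadditive.epi_of_isZero_cokernel a ((IsZero.iff_id_eq_zero _).2 (by
      haveI : Mono (0 : G₀ ⟶ G₀) := mono_of_stalk ξ _ fun a b _ => Subsingleton.elim a b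
      exact (cancel_mono (0 : G₀ ⟶ G₀)).1 (comp_zero.trans comp_zero.symm)))
    have hinj : Function.Injective ((EtCoh.stalk ξ).map a) :=
      Finite.injective_iff_surjective.2 (surjective_stalk_of_epi ξ a)
    obtain ⟨y, hy⟩ := exists_ne (0 : (EtCoh.stalk ξ).obj F)
    obtain ⟨V, v, s, rfl⟩ := exists_germ ξ F y
    obtain ⟨V', g, ⟨w, hw⟩, k, hk⟩ := hF V s (v.left.base (default : Spec (CommRingCat.of (AlgebraicClosure K))))
    obtain ⟨t', ht'⟩ := GrothLib.LocConst.exists_fib_lift ξ g v w hw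
    apply hy
    have hm : ∀ z, ((EtCoh.stalk ξ).map a) z = p • z := fun z => by
      change ((EtCoh.stalk ξ).map (p • 𝟙 F)) z = p • z
      rw [Functor.map_nsmul, CategoryTheory.Functor.map_id]
      exact map_nsmul (AddMonoidHom.mk' (fun k : (EtCoh.stalk ξ).obj F ⟶ (EtCoh.stalk ξ).obj F => k z) fun _ _ => rfl) p (𝟙 _)
    have hpk : p ^ k • germ ξ F v s = 0 := by
      rw [← ht', ← germ_map, ← map_nsmul, hk, map_zero]
    clear hk
    induction k with
    | zero => rwa [pow_zero, one_smul] at hpk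
    | succ k ihk =>
      refine ihk (hinj ?_)
      rw [hm, map_zero, ← mul_nsmul', ← pow_succ', hpk]
  intro G hG x
  refine H_eq_zero_of_const K p n (fun L _ _ _ _ => ?_) G hG x
  haveI : Etale (specMap K L) := etale_specMap K L
  haveI := GrothLib.Constructible.jcont (specMap K L)
  haveI := GrothLib.EtDer.pullFL (specMap K L)
  haveI : (EtCoh.pull (specMap K L)).Additive := (EtCoh.pullPushAdj _).left_adjoint_additive
  haveI : Algebra.IsAlgebraic K L := Algebra.IsAlgebraic.of_finite K L
  have hkv : DimFun18.KillVan (Spec (CommRingCat.of K)) p n := fun H hH q hq =>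
    hcd H (fun U s w => ⟨U, 𝟙 U, ⟨w, rfl⟩, 1, by
      rw [pow_one]; exact GrothLib.EtTrace21.nsmul_sect hH _⟩) q hq
  let e : SeparableClosure L →ₐ[L] AlgebraicClosure L := IsSepClosed.lift
  have hstalk : ∀ (H : EtCoh.Ab (Spec (CommRingCat.of K))),
      Nonempty ((EtCoh.stalk (algPt L)).obj ((EtCoh.pull (specMap K L)).obj H) ≅ (EtCoh.stalk (algPt L ≫ specMap K L)).obj H) :=
    fun H => ⟨(GrothLib.EtSite.pullStalkIso (algPt L) (specMap K L)).app H⟩
  obtain ⟨es⟩ := hstalk G₀
  let ξ' := algPt L ≫ specMap K L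
  have hne' : Nontrivial ((EtCoh.stalk ξ').obj G₀) := by
    by_contra hcon
    rw [not_nontrivial_iff_subsingleton] at hcon
    have h1 : IsZero ((EtCoh.stalk ξ).obj G₀) := GrothLib.ConstrCpt.isZero_stalk_of_same ξ ξ'
      (Subsingleton.elim (α := PrimeSpectrum K) _ _) (AddCommGrpCat.isZero_of_subsingleton _)
    haveI := AddCommGrpCat.subsingleton_of_isZero h1
    exact false_of_nontrivial_of_subsingleton ((EtCoh.stalk ξ).obj G₀)
  haveI := hfinF _ ξ'
  haveI hfin' : Finite ((EtCoh.stalk ξ').obj G₀) := Finite.of_surjective _ (surjective_stalk_of_epi ξ' (cokernel.π a))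
  let E := es.addCommGroupIsoToAddEquiv
  refine H_const_eq_zero_of_sheaf p L n (killVan_algebraic hkv) _
    (DimFun18.killed_map (EtCoh.pull (specMap K L)) hG₀) (Finite.of_equiv _ E.symm.toEquiv)
    (E.toEquiv.nontrivial) ?_
  intro L' _ _ _ _
  letI : Algebra K L' := ((algebraMap L L').comp (algebraMap K L)).toAlgebra
  haveI : IsScalarTower K L L' := IsScalarTower.of_algebraMap_eq fun _ => rfl
  haveI : FiniteDimensional K L' := FiniteDimensional.trans K L L'
  haveI : Algebra.IsSeparable K L' := Algebra.IsSeparable.trans K L L'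
  haveI : Algebra.IsAlgebraic K L' := Algebra.IsAlgebraic.of_finite K L'
  haveI := GrothLib.EtDer.pullFL (specMap K L')
  haveI := GrothLib.EtDer.pullFL (specMap L L')
  haveI : (EtCoh.pull (specMap K L')).Additive := (EtCoh.pullPushAdj _).left_adjoint_additive
  let π' := (EtCoh.pull (specMap K L')).map (cokernel.π a)
  haveI : PreservesFiniteColimits (EtCoh.pull (specMap K L')) :=
    ((EtCoh.pullPushAdj (specMap K L')).leftAdjoint_preservesColimits : PreservesColimitsOfSize.{0, 0} _).preservesFiniteColimits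
  haveI : Epi π' := inferInstance
  let T := ShortComplex.mk (kernel.ι π') π' (kernel.condition π')
  have hT : T.ShortExact := { exact := T.exact_of_f_is_kernel (kernelIsKernel π') }
  have hker : EtDepth.IsLTorsion p T.X₁ := by
    have hF' : Dix.IsPrimaryTorsion p ((EtCoh.pull (specMap K L')).obj F) := primary_of_isLTorsion (GrothLib.EtDer.isLTorsion_pull _ _ (isLTorsion_of_primary hF))
    intro U s w
    obtain ⟨V, g, hv, k, hk⟩ := hF' U ((kernel.ι π').hom.app (op U) s) w
    refine ⟨V, g, hv, k, GrothLib.EtTrace21.injective_app (kernel.ι π') V ?_⟩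
    rw [map_nsmul, map_zero]
    exact (congrArg (p ^ k • ·) (NatTrans.naturality_apply (kernel.ι π').hom g.op s)).trans hk
  have hcdL' : ∀ H, EtDepth.IsLTorsion p H → ∀ z : EtCoh.H (Spec (CommRingCat.of L')) H (n + 1), z = 0 := fun H hH z => by
    refine DimFun18.H_eq_zero_of_primary p (E := Set.univ)
      (fun G' hG' _ y => @Subsingleton.elim _ (killVan_algebraic (K := K) hkv G' hG' (n + 1) (Nat.lt_succ_self n)) y 0)
      H hH (fun Ω _ _ ξ hξ => absurd (Set.mem_univ _) hξ) z
  have h3 : Subsingleton (EtCoh.H (Spec (CommRingCat.of L')) T.X₃ n) := by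
    refine ⟨fun a b => ?_⟩
    suffices ∀ z : EtCoh.H (Spec (CommRingCat.of L')) T.X₃ n, z = 0 from (this a).trans (this b).symm
    intro z
    obtain ⟨w, hw⟩ := CategoryTheory.Abelian.Ext.covariant_sequence_exact₃ _ hT z rfl (hcdL' _ hker _)
    haveI := hvan L'
    rw [← hw, Subsingleton.elim (α := EtCoh.H (Spec (CommRingCat.of L')) T.X₂ n) w 0, CategoryTheory.Abelian.Ext.zero_comp]
  refine GrothLib.CdP18.subsingleton_H_of_iso ?_ n h3
  exact (EtCore.pullCongr (show specMap K L' = specMap L L' ≫ specMap K L by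
      rw [← Spec.map_comp, ← CommRingCat.ofHom_comp]; rfl) ≪≫
    EtCore.pullComp (specMap L L') (specMap K L)).app G₀

end GrothLib.FieldExtCd18
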